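import Cfsg.Agent.Lib.Perm.ZasSuzuki.Cube.Coef

/-!
# The kernel is not of order the cube of its centre

The linear characters of the kernel give `q + 1` exceptional characters; counting with the character
of degree `q` of the kernel produces an irreducible character of impossible degree.
-/

set_option autoImplicit false
set_option linter.unusedSectionVars false
set_option linter.style.haveILetI false

namespace Cfsg.Lib.ZasSuzuki

open Cfsg Cfsg.Lib.Char
open scoped commutatorElement ComplexConjugate IsMulCommutative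

universe u v w

/-- A weighted-orthogonal vector of norm two. -/
theorem diff_delta {X : Type w} [Fintype X] [DecidableEq X] (v deg : X → ℤ) (hdeg : ∀ x, 0 < deg x)
    (hn : ∑ x, v x * v x = 2) (ho : ∑ x, v x * deg x = 0) :
    ∃ a b, a ≠ b ∧ ∀ x, v x = (if x = a then 1 else 0) - (if x = b then 1 else 0) := by
  have hle : ∀ x, v x = 0 ∨ v x = 1 ∨ v x = -1 := by
    intro x
    have h := Finset.single_le_sum (f := fun y => v y * v y) (fun y _ => mul_self_nonneg _) (Finset.mem_univ x)
    simp only [hn] at h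
    by_contra hh
    push Not at hh
    rcases lt_trichotomy (v x) 0 with h1 | h1 | h1
    · nlinarith [show v x ≤ -2 by omega]
    · exact hh.1 h1
    · nlinarith [show 2 ≤ v x by omega]
  set T := Finset.univ.filter fun x => v x ≠ 0 with hT
  have hTc : T.card = 2 := by
    have h1 : ∑ x, v x * v x = ∑ x, if v x ≠ 0 then (1 : ℤ) else 0 := by
      refine Finset.sum_congr rfl fun x _ => ?_
      rcases hle x with e | e | e <;> simp [e]
    rw [hn, Finset.sum_boole] at h1
    exact_mod_cast h1.symm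
  obtain ⟨a, b, hab, hTab⟩ := Finset.card_eq_two.1 hTc
  have ho' : v a * deg a + v b * deg b = 0 := by
    rw [← ho, ← Finset.sum_subset (Finset.subset_univ T) fun x _ hx => by simp [hT] at hx; simp [hx], hTab,
      Finset.sum_pair hab]
  have hout : ∀ x, x ≠ a → x ≠ b → v x = 0 := fun x h1 h2 => by
    by_contra h
    have : x ∈ T := Finset.mem_filter.2 ⟨Finset.mem_univ _, h⟩
    simp [hTab, h1, h2] at this
  have hne : ∀ x ∈ ({a, b} : Finset X), v x ≠ 0 := fun x hx => (Finset.mem_filter.1 (hTab ▸ hx : x ∈ T)).2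
  have ha := hne a (by simp)
  have hb := hne b (by simp)
  rcases hle a with e | e | e
  · exact absurd e ha
  · refine ⟨a, b, hab, fun x => ?_⟩
    have hvb : v b = -1 := by
      rcases hle b with e' | e' | e'
      · exact absurd e' hb
      · rw [e, e'] at ho'; linarith [hdeg a, hdeg b]
      · exact e'
    by_cases h1 : x = a
    · simp [h1, hab, e]
    by_cases h2 : x = b
    · simp [h2, Ne.symm hab, hvb]
    · simp [h1, h2, hout x h1 h2]
  · refine ⟨b, a, Ne.symm hab, fun x => ?_⟩
    have hvb : v b = 1 := by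
      rcases hle b with e' | e' | e'
      · exact absurd e' hb
      · exact e'
      · rw [e, e'] at ho'; linarith [hdeg a, hdeg b]
    by_cases h1 : x = a
    · simp [h1, hab, e]
    by_cases h2 : x = b
    · simp [h2, Ne.symm hab, hvb]
    · simp [h1, h2, hout x h1 h2]

theorem delta_inner {X : Type w} [Fintype X] [DecidableEq X] (a b a' b' : X) :
    ∑ x, ((if x = a then (1 : ℤ) else 0) - (if x = b then 1 else 0)) *
        ((if x = a' then 1 else 0) - (if x = b' then 1 else 0)) =
      (if a = a' then 1 else 0) - (if a = b' then 1 else 0) - (if b = a' then 1 else 0) +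
        (if b = b' then 1 else 0) := by
  simp only [sub_mul, Finset.sum_sub_distrib, ite_mul, one_mul, zero_mul, Finset.sum_ite_eq',
    Finset.mem_univ, if_true]
  ring

/-- Vectors `δ a - δ b` with mutual inner products one have a common head or a common tail. -/
theorem pattern {J : Type*} {X : Type w} [DecidableEq X] (a b : J → X) (hne : ∀ i, a i ≠ b i)
    (h : ∀ i j, i ≠ j → (if a i = a j then (1 : ℤ) else 0) - (if a i = b j then 1 else 0) -
      (if b i = a j then 1 else 0) + (if b i = b j then 1 else 0) = 1) :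
    ((∀ i j, a i = a j) ∧ Function.Injective b) ∨ ((∀ i j, b i = b j) ∧ Function.Injective a) := by
  have hpair : ∀ i j, i ≠ j → (a i = a j ∧ b i ≠ b j) ∨ (b i = b j ∧ a i ≠ a j) := by
    intro i j hij
    have hh := h i j hij
    by_cases h1 : a i = a j <;> by_cases h2 : b i = b j
    · exfalso
      rw [if_pos h1, if_pos h2, if_neg (fun e => hne j (h1.symm.trans e)),
        if_neg (fun e => hne j (e.symm.trans h2))] at hh
      norm_num at hh
    · exact Or.inl ⟨h1, h2⟩
    · exact Or.inr ⟨h2, h1⟩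
    · exfalso
      rw [if_neg h1, if_neg h2] at hh
      split_ifs at hh <;> norm_num at hh
  by_cases hex : ∃ i j, i ≠ j ∧ a i = a j
  · obtain ⟨i, j, hij, hA⟩ := hex
    have hb : b i ≠ b j := by
      rcases hpair i j hij with h1 | h1
      · exact h1.2
      · exact absurd hA h1.2
    have hall : ∀ k, a i = a k := by
      intro k
      by_cases hki : i = k
      · rw [hki]
      by_cases hkj : j = k
      · rw [← hkj, hA]
      rcases hpair i k hki with h1 | h1
      · exact h1.1
      · rcases hpair j k hkj with h2 | h2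
        · exact hA.trans h2.1
        · exact absurd (h1.1.trans h2.1.symm) hb
    refine Or.inl ⟨fun k l => (hall k).symm.trans (hall l), fun k l e => ?_⟩
    by_contra hkl
    rcases hpair k l hkl with h1 | h1
    · exact h1.2 e
    · exact h1.2 ((hall k).symm.trans (hall l))
  · push Not at hex
    refine Or.inr ⟨fun k l => ?_, fun k l e => by_contra fun hkl => hex k l hkl e⟩
    by_cases hkl : k = l
    · rw [hkl]
    rcases hpair k l hkl with h1 | h1
    · exact absurd h1.1 (hex k l hkl)
    · exact h1.1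

/-- The final arithmetic. -/
theorem cube_arith {n : ℕ} {q c m k : ℤ} (hq : q = 2 ^ n) (hn : 2 ≤ n) (hc : Odd c) (hc0 : 0 ≤ c)
    (hm : Odd m) (hmq : m * m ≤ q) (hk : 0 < k)
    (h : k * ((q * q + q + 1) * c + q * m) = q ^ 3 + 1) : False := by
  have hq4 : 4 ≤ q := by
    rw [hq]; exact le_trans (by norm_num) (pow_le_pow_right₀ (by norm_num : (1 : ℤ) ≤ 2) hn)
  have hqe : Even q := by rw [hq]; exact Int.even_pow.2 ⟨even_two, by omega⟩
  have hc1 : 1 ≤ c := by rcases hc with ⟨t, rfl⟩; omega
  -- the quotient is odd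
  have hko : Odd k := by
    have : Odd (k * ((q * q + q + 1) * c + q * m)) := by
      rw [h]; exact (Int.even_pow.2 ⟨hqe, by norm_num⟩).add_one
    exact (Int.odd_mul.1 this).1
  obtain ⟨i, hi⟩ : q ∣ k * c - 1 := ⟨q * q - k * c * (q + 1) - k * m, by linear_combination h⟩
  have hkm : k * m = -((i - 1) * q ^ 2 + (i + 1) * q + (i + 1)) := by
    refine mul_left_cancel₀ (show q ≠ 0 by omega) ?_
    linear_combination h - (q * q + q + 1) * hi
  have hkc : 1 ≤ k * c := one_le_mul_of_one_le_of_one_le hk hc1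
  have hi0 : 0 ≤ i := by
    by_contra hneg
    push Not at hneg
    nlinarith
  -- the bound
  have hm4 : 4 * |m| ≤ q := by
    by_cases h16 : 16 ≤ q
    · nlinarith [abs_mul_abs_self m, sq_nonneg (4 * |m| - q), abs_nonneg m]
    · have h1 : |m| ≤ 1 := by
        obtain ⟨t, rfl⟩ := hm
        have hn4 : n < 4 := by
          by_contra hh
          push Not at hh
          have := pow_le_pow_right₀ (by norm_num : (1 : ℤ) ≤ 2) hh
          rw [← hq] at this
          norm_num at this
          omega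
        have hq8 : q ≤ 8 := by interval_cases n <;> norm_num at hq <;> omega
        have ht0 : t ≤ 0 := by
          by_contra hh
          push Not at hh
          nlinarith [show 1 ≤ t by omega]
        have ht1 : -1 ≤ t := by
          by_contra hh
          push Not at hh
          nlinarith [show t ≤ -2 by omega]
        rw [abs_le]; omega
      linarith
  rcases eq_or_lt_of_le hi0 with rfl | hipos
  · have hk1 : k = 1 := by
      rcases Int.eq_one_or_neg_one_of_mul_eq_one (show k * c = 1 by linarith) with e | e <;> omega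
    rw [hk1, one_mul] at hkm
    nlinarith [abs_mul_abs_self m, le_abs_self m]
  rcases eq_or_lt_of_le (show 1 ≤ i by omega) with rfl | hi2
  · have : Odd (k * m) := hko.mul hm
    rw [hkm] at this
    exact Int.not_odd_iff_even.2 ⟨-(q + 1), by ring⟩ this
  · have h1 : |k * m| ≤ (1 + i * q) * |m| := by
      rw [abs_mul, abs_of_pos hk]
      refine mul_le_mul_of_nonneg_right ?_ (abs_nonneg m)
      nlinarith
    have h2 : (i - 1) * q ^ 2 + (i + 1) * q + (i + 1) ≤ |k * m| := by
      rw [hkm, abs_neg]; exact le_abs_self _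
    nlinarith [mul_le_mul_of_nonneg_left hm4 (show (0 : ℤ) ≤ 1 + i * q by positivity)]

variable {G : Type u} {Ω : Type v} [Group G] [Fintype G] [MulAction G Ω] [Fintype Ω] [IsSimpleGroup G]

namespace ZSetup

variable (S : ZSetup G Ω) [Fintype S.U] [Fintype S.D]

include S

/-- Parseval for induced functions with real multiplicities. -/
theorem ind_parseval {f g : S.U → ℂ} (kf kg : IrrCharacter G → ℤ)
    (hf : ∀ χ : IrrCharacter G, S.cf χ f = (kf χ : ℂ)) (hg : ∀ χ : IrrCharacter G, S.cf χ g = (kg χ : ℂ)) :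
    classInner (indFun S.U f) (indFun S.U g) = ((∑ χ, kf χ * kg χ : ℤ) : ℂ) := by
  rw [classInner_eq_sum (isClassFunction_indFun S.U f), Int.cast_sum]
  refine Finset.sum_congr rfl fun χ => fun _ => ?_
  rw [← classInner_conj_symm (χ : G → ℂ) (indFun S.U f), ← classInner_conj_symm (χ : G → ℂ) (indFun S.U g),
    classInner_indFun_right _ _ χ.2.isClassFunction, classInner_indFun_right _ _ χ.2.isClassFunction,
    show classInner (fun u : S.U => (χ : G → ℂ) u) f = (kf χ : ℂ) from hf χ,
    show classInner (fun u : S.U => (χ : G → ℂ) u) g = (kg χ : ℂ) from hg χ]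
  simp [Int.cast_mul]

/-- Expansion of an induced function with real multiplicities. -/
theorem ind_expand {f : S.U → ℂ} (kf : IrrCharacter G → ℤ)
    (hf : ∀ χ : IrrCharacter G, S.cf χ f = (kf χ : ℂ)) (g : G) :
    indFun S.U f g = ∑ χ : IrrCharacter G, (kf χ : ℂ) * (χ : G → ℂ) g := by
  conv_lhs => rw [eq_sum_classInner (isClassFunction_indFun S.U f)]
  rw [Finset.sum_apply]
  refine Finset.sum_congr rfl fun χ _ => ?_
  rw [Pi.smul_apply, smul_eq_mul, ← classInner_conj_symm (χ : G → ℂ) (indFun S.U f),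
    classInner_indFun_right _ _ χ.2.isClassFunction,
    show classInner (fun u : S.U => (χ : G → ℂ) u) f = (kf χ : ℂ) from hf χ]
  simp

variable (hh : S.h = S.q ^ 3)

include hh

theorem coset_free {u : S.U} (hu : u ∉ Subgroup.center S.U) {k : S.D} (hk : k ≠ 1) :
    u * S.conjU k u ∉ Subgroup.center S.U := by
  intro hmem
  have hz := mul_mem (inv_mem (S.sq_center u)) hmem
  rw [show (u * u)⁻¹ * (u * S.conjU k u) = u⁻¹ * S.conjU k u by group] at hz
  have h1 : S.conjU k (u * u) = u * u := by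
    obtain ⟨z, hzm, hzk⟩ : ∃ z ∈ Subgroup.center S.U, S.conjU k u = u * z := ⟨_, hz, by group⟩
    rw [map_mul, hzk]
    calc u * z * (u * z) = u * (z * u) * z := by group
      _ = u * (u * z) * z := by rw [← Subgroup.mem_center_iff.1 hzm u]
      _ = u * u * (z * z) := by group
      _ = u * u := by rw [(S.center_iff z).1 hzm, mul_one]
  by_cases h2 : u * u = 1
  · exact hu ((S.center_iff u).2 h2)
  · exact hk (S.free h2 h1)

/-- A character nonorthogonal to the trivial character of the kernel. -/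
theorem cf_of_trivial {χ : G → ℂ} (hχ : IsIrrCharacter G χ) (h1 : S.cf χ (fun _ => 1) ≠ 0) :
    ∃ t : ℂ, (∀ μ : S.U →* ℂˣ, μ ≠ 1 → S.cf χ (fun v => (μ v : ℂ)) = t) ∧
      ∀ lam : Subgroup.center S.U →* ℂˣ, lam ≠ 1 → S.cf χ (S.psi lam) = (S.q : ℂ) * t := by
  classical
  obtain ⟨u₀, hu₀⟩ := S.exists_noncentral
  have hu1 : u₀ ≠ 1 := fun e => hu₀ (e ▸ one_mem _)
  have hconst := S.const_of_trivial hh hχ h1
  have key : ∀ f : S.U → ℂ, ∑ v, f v = 0 →
      S.cf χ f = conj (f 1) * ((Nat.card S.U : ℂ)⁻¹ * (χ (1 : S.U) - χ u₀)) := by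
    intro f hf
    have hf' : ∑ v, conj (f v) = 0 := by rw [← map_sum, hf, map_zero]
    rw [cf, classInner]
    rw [show ∑ v : S.U, χ v * conj (f v) =
      ∑ v : S.U, (χ v - χ u₀) * conj (f v) + χ u₀ * ∑ v : S.U, conj (f v) by
        rw [Finset.mul_sum, ← Finset.sum_add_distrib]
        exact Finset.sum_congr rfl fun v _ => by ring,
      hf', mul_zero, add_zero, Finset.sum_eq_single 1]
    · ring
    · intro v _ hv
      rw [hconst v u₀ hv hu1, sub_self, zero_mul]
    · simp
  refine ⟨(Nat.card S.U : ℂ)⁻¹ * (χ (1 : S.U) - χ u₀), fun μ hμ => ?_, fun lam hl => ?_⟩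
  · rw [key _ (hom_sum_zero hμ), map_one, Units.val_one, map_one, one_mul]
  · haveI := Fintype.ofFinite (Subgroup.center S.U)
    rw [key]
    · rw [show S.psi lam 1 = (S.q : ℂ) by
        rw [show (1 : S.U) = ((1 : Subgroup.center S.U) : S.U) from rfl, S.psi_center, map_one,
          Units.val_one, mul_one], Complex.conj_natCast]
    · rw [S.sum_center _ fun v hv => S.psi_off _ hv]
      simp only [S.psi_center, ← Finset.mul_sum, hom_sum_zero hl, mul_zero]

set_option maxHeartbeats 1000000 in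
theorem cube_false : False := by
  classical
  haveI := finite_hom_units S.U
  haveI := Fintype.ofFinite (S.U →* ℂˣ)
  haveI := Fintype.ofFinite (Subgroup.center S.U)
  have hq4 := S.four_le_q
  have hq0 : (S.q : ℂ) ≠ 0 := Nat.cast_ne_zero.2 (by omega)
  have hDq : (Fintype.card S.D : ℤ) = (S.q : ℤ) - 1 := by
    rw [← Nat.card_eq_fintype_card]; simp [q]
  obtain ⟨u, hu⟩ := S.exists_noncentral
  have hu1 : u ≠ 1 := fun e => hu (e ▸ one_mem _)
  obtain ⟨lam, hl⟩ : ∃ lam : Subgroup.center S.U →* ℂˣ, lam ≠ 1 := by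
    by_contra h
    push Not at h
    haveI : Subsingleton (Subgroup.center S.U →* ℂˣ) := ⟨fun a b => (h a).trans (h b).symm⟩
    have h2 := card_monoidHom_units (Subgroup.center S.U)
    rw [S.card_center, Nat.card_eq_one_iff_unique.2 ⟨inferInstance, inferInstance⟩] at h2
    omega
  obtain ⟨ι, hι, r, hιc, hr1, hinj, hsum⟩ := S.exists_reps hh
  obtain ⟨i0⟩ : Nonempty ι := Fintype.card_pos_iff.1 (by omega)
  -- multiplicities
  choose c hc using fun (i : ι) (χ : IrrCharacter G) =>
    S.cf_nat χ.2.isCharacter (isIrrCharacter_linear (r i)).isCharacter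
  choose e he using fun χ : IrrCharacter G =>
    S.cf_nat χ.2.isCharacter (f := fun _ : S.U => (1 : ℂ)) isCharacter_one
  choose dd hdd using fun χ : IrrCharacter G =>
    S.cf_nat χ.2.isCharacter (S.psi_irr hh hl).isCharacter
  choose deg hdeg0 hdeg using fun χ : IrrCharacter G => χ.2.exists_degree
  have hctw : ∀ i d (χ : IrrCharacter G),
      S.cf χ (fun v => (r i (S.conjU d v) : ℂ)) = (c i χ : ℂ) := fun i d χ => by
    rw [← hc i χ]; exact S.cf_conj χ.2.isClassFunction (fun v => (r i v : ℂ)) d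
  have hone : ∀ χ : IrrCharacter G, S.cf χ (fun v => ((1 : S.U →* ℂˣ) v : ℂ)) = (e χ : ℂ) := fun χ => by
    rw [← he χ]; simp [MonoidHom.one_apply]
  -- the orbit sums at the noncentral element
  choose sg hsg using fun (i : ι) (d : S.D) =>
    (show ∃ s : ℤ, (r i (S.conjU d u) : ℂ) = (s : ℂ) by
      rcases S.lin_sign hh (r i) (S.conjU d u) with h' | h'
      · exact ⟨1, by rw [h']; simp⟩
      · exact ⟨-1, by rw [h']; simp⟩)
  obtain ⟨η, hη⟩ : ∃ η : ι → ℤ, ∀ i, ∑ d : S.D, (r i (S.conjU d u) : ℂ) = (η i : ℂ) :=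
    ⟨fun i => ∑ d, sg i d, fun i => by rw [Int.cast_sum]; exact Finset.sum_congr rfl fun d _ => hsg i d⟩
  have hη1 : ∑ i, η i = -1 := by
    have h := hsum fun μ => (μ u : ℂ)
    rw [S.lin_sum hh, if_neg hu] at h
    simp only [twist_apply, hη, MonoidHom.one_apply, Units.val_one] at h
    have h' : ((∑ i, η i : ℤ) : ℂ) = ((-1 : ℤ) : ℂ) := by push_cast; linear_combination -h
    exact_mod_cast h'
  have hη2 : ∑ i, η i * η i = (S.q : ℤ) * S.q - S.q + 1 := by
    have hk : ∀ k : S.D, ∑ i, ∑ d : S.D, (r i (S.conjU d u) : ℂ) * (r i (S.conjU (d * k) u) : ℂ) =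
        (if k = 1 then (S.q : ℂ) ^ 2 else 0) - 1 := by
      intro k
      have h := hsum fun μ => (μ u : ℂ) * (μ (S.conjU k u) : ℂ)
      simp only [← Units.val_mul, ← map_mul] at h
      rw [S.lin_sum hh] at h
      simp only [twist_apply, MonoidHom.one_apply, Units.val_one, map_mul, Units.val_mul] at h
      have hiff : u * S.conjU k u ∈ Subgroup.center S.U ↔ k = 1 :=
        ⟨fun hm => by_contra fun hk1 => S.coset_free hh hu hk1 hm,
          fun hk1 => by subst hk1; simpa using S.sq_center u⟩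
      simp only [hiff] at h
      simp only [map_mul, MulAut.mul_apply]
      linear_combination -h
    have hL : ((∑ i, η i * η i : ℤ) : ℂ) = ∑ k : S.D, ((if k = 1 then (S.q : ℂ) ^ 2 else 0) - 1) := by
      rw [Int.cast_sum, Finset.sum_congr rfl fun k _ => (hk k).symm, Finset.sum_comm]
      refine Finset.sum_congr rfl fun i _ => ?_
      rw [Int.cast_mul, ← hη, Finset.sum_mul, Finset.sum_comm]
      refine Finset.sum_congr rfl fun d _ => ?_
      rw [Finset.mul_sum]
      exact (Fintype.sum_equiv (Equiv.mulLeft d) _ _ fun k => rfl).symm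
    rw [Finset.sum_sub_distrib, Finset.sum_ite_eq', if_pos (Finset.mem_univ _), Finset.sum_const,
      Finset.card_univ, nsmul_eq_mul, mul_one] at hL
    have hD : ((Fintype.card S.D : ℕ) : ℂ) = (((S.q : ℤ) - 1 : ℤ) : ℂ) := by rw [← hDq, Int.cast_natCast]
    rw [hD] at hL
    have h' : ((∑ i, η i * η i : ℤ) : ℂ) = (((S.q : ℤ) * S.q - S.q + 1 : ℤ) : ℂ) := by
      rw [hL]
      simp only [Int.cast_sub, Int.cast_add, Int.cast_mul, Int.cast_natCast, Int.cast_one]
      ring
    exact_mod_cast h'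
  -- values
  set val : IrrCharacter G → ℤ := fun χ => (e χ : ℤ) + ∑ i, (c i χ : ℤ) * η i with hvaldef
  have hval : ∀ χ : IrrCharacter G, (χ : G → ℂ) u = (val χ : ℂ) := by
    intro χ
    rw [S.expand_off hh χ.2.isClassFunction hu,
      hsum fun μ => S.cf χ (fun v => (μ v : ℂ)) * (μ u : ℂ)]
    simp only [MonoidHom.one_apply, Units.val_one, mul_one, twist_apply, he, hctw, ← Finset.mul_sum, hη]
    simp [hvaldef]
  have hdegval : ∀ χ : IrrCharacter G, (deg χ : ℤ) =
      e χ + ((S.q : ℤ) - 1) * (∑ i, (c i χ : ℤ)) + (S.q : ℤ) * ((S.q : ℤ) - 1) * dd χ := by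
    intro χ
    have h : (χ : G → ℂ) 1 = _ := S.expand_one hh χ.2.isClassFunction hl
    rw [hdeg χ, hsum fun μ => S.cf χ (fun v => (μ v : ℂ))] at h
    simp only [hone, twist_apply, hctw, hdd, Finset.sum_const, Finset.card_univ, nsmul_eq_mul] at h
    have hD : ((Fintype.card S.D : ℕ) : ℂ) = (((S.q : ℤ) - 1 : ℤ) : ℂ) := by rw [← hDq, Int.cast_natCast]
    rw [hD, ← Finset.mul_sum] at h
    have h' : ((deg χ : ℤ) : ℂ) = ((e χ + ((S.q : ℤ) - 1) * (∑ i, (c i χ : ℤ)) +
        (S.q : ℤ) * ((S.q : ℤ) - 1) * dd χ : ℤ) : ℂ) := by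
      simp only [Int.cast_add, Int.cast_mul, Int.cast_sub, Int.cast_natCast, Int.cast_one, Int.cast_sum] at h ⊢
      exact h
    exact_mod_cast h'
  -- differences of linear characters
  let fd : ι → ι → S.U → ℂ := fun i j v => (r i v : ℂ) - (r j v : ℂ)
  have hfd1 : ∀ i j, fd i j 1 = 0 := fun i j => by simp [fd]
  have hfdc : ∀ i j, IsClassFunction S.U (fd i j) := fun i j x y => by simp [fd, mul_comm, mul_left_comm]
  have hfdk : ∀ i j (χ : IrrCharacter G), S.cf χ (fd i j) = (((c i χ : ℤ) - c j χ : ℤ) : ℂ) := by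
    intro i j χ
    rw [Int.cast_sub, Int.cast_natCast, Int.cast_natCast, ← hc, ← hc]
    exact classInner_sub_right _ _ _
  have hdel : ∀ i k (d : S.D), classInner (fun v => (r i v : ℂ)) (fun v => (r k (S.conjU d v) : ℂ)) =
      if i = k ∧ d = 1 then 1 else 0 := by
    intro i k d
    show classInner _ (fun v => (S.twist (r k) d v : ℂ)) = _
    rw [S.lin_inner]
    refine if_congr ⟨fun h => ?_, fun h => ?_⟩ rfl rfl
    · obtain ⟨h1, h2⟩ := hinj i k 1 d (by rw [S.twist_one]; exact h)
      exact ⟨h1, h2.symm⟩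
    · rw [h.1, h.2, S.twist_one]
  have hgram : ∀ i j k l, ∑ χ : IrrCharacter G, ((c i χ : ℤ) - c j χ) * ((c k χ : ℤ) - c l χ) =
      (if i = k then 1 else 0) - (if i = l then 1 else 0) - (if j = k then 1 else 0) +
        (if j = l then 1 else 0) := by
    intro i j k l
    have h := (S.ind_parseval _ _ (hfdk i j) (hfdk k l)).symm.trans (S.ind_inner (hfdc k l) (hfd1 i j))
    have hterm : ∀ d : S.D, classInner (fd i j) (fun v => fd k l (S.conjU d v)) =
        if d = 1 then (((if i = k then 1 else 0) - (if i = l then 1 else 0) - (if j = k then 1 else 0) +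
          (if j = l then 1 else 0) : ℤ) : ℂ) else 0 := by
      intro d
      rw [show fd i j = (fun v => (r i v : ℂ)) - fun v => (r j v : ℂ) from rfl,
        show (fun v => fd k l (S.conjU d v)) =
          (fun v => (r k (S.conjU d v) : ℂ)) - fun v => (r l (S.conjU d v) : ℂ) from rfl,
        classInner_sub_left, classInner_sub_right, classInner_sub_right, hdel, hdel, hdel, hdel]
      by_cases hd : d = 1
      · simp only [hd, and_true, if_true]; push_cast; ring
      · simp [hd]
    simp only [hterm, Finset.sum_ite_eq', Finset.mem_univ, if_true] at h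
    exact_mod_cast h
  have hdo : ∀ i j, ∑ χ : IrrCharacter G, ((c i χ : ℤ) - c j χ) * (deg χ : ℤ) = 0 := by
    intro i j
    have h := S.ind_expand _ (hfdk i j) 1
    rw [indFun_apply_one, hfd1, mul_zero] at h
    simp only [hdeg] at h
    exact_mod_cast h.symm
  have hdu : ∀ i j, ∑ χ : IrrCharacter G, ((c i χ : ℤ) - c j χ) * val χ = η i - η j := by
    intro i j
    have h := S.ind_expand _ (hfdk i j) (u : G)
    rw [S.indFun_U (hfdc i j) hu1] at h
    simp only [fd, Finset.sum_sub_distrib, hη, hval] at h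
    exact_mod_cast h.symm
  -- the exceptional characters
  obtain ⟨ε, x, cc, hε, hxinj, hcx⟩ : ∃ (ε : ℤ) (x : ι → IrrCharacter G) (cc : IrrCharacter G → ℤ),
      (ε = 1 ∨ ε = -1) ∧ Function.Injective x ∧
        ∀ i χ, (c i χ : ℤ) = cc χ + ε * (if χ = x i then 1 else 0) := by
    have hd : ∀ i : {i : ι // i ≠ i0}, ∃ a b, a ≠ b ∧ ∀ χ : IrrCharacter G,
        (c i0 χ : ℤ) - c i.1 χ = (if χ = a then 1 else 0) - (if χ = b then 1 else 0) := by
      intro i
      refine diff_delta _ (fun χ => (deg χ : ℤ)) (fun χ => by exact_mod_cast hdeg0 χ) ?_ (hdo i0 i.1)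
      rw [hgram i0 i.1 i0 i.1]
      simp [i.2, Ne.symm i.2]
    choose A B hAB hd using hd
    have hp := pattern A B hAB fun i j hij => by
      rw [← delta_inner]
      simp only [← hd]
      rw [hgram i0 i.1 i0 j.1]
      simp [i.2, Ne.symm j.2, Subtype.coe_injective.ne hij]
    obtain ⟨i1, hi1⟩ : ∃ i1 : ι, i1 ≠ i0 := Fintype.exists_ne_of_one_lt_card (by omega) i0
    rcases hp with ⟨hA, hB⟩ | ⟨hB, hA⟩
    · refine ⟨1, fun i => if hi : i = i0 then A ⟨i1, hi1⟩ else B ⟨i, hi⟩,
        fun χ => (c i0 χ : ℤ) - (if χ = A ⟨i1, hi1⟩ then 1 else 0), Or.inl rfl, fun i j hij => ?_,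
        fun i χ => ?_⟩
      · by_cases hi : i = i0 <;> by_cases hj : j = i0 <;> simp only [hi, hj, dite_true, dite_false] at hij
        · rw [hi, hj]
        · exact absurd ((hA _ _).trans hij) (hAB ⟨j, hj⟩)
        · exact absurd ((hA _ _).trans hij.symm) (hAB ⟨i, hi⟩)
        · exact congrArg Subtype.val (hB hij)
      · by_cases hi : i = i0
        · simp [hi]
        · have := hd ⟨i, hi⟩ χ
          rw [hA ⟨i, hi⟩ ⟨i1, hi1⟩] at this
          simp only [dif_neg hi]
          linarith
    · refine ⟨-1, fun i => if hi : i = i0 then B ⟨i1, hi1⟩ else A ⟨i, hi⟩,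
        fun χ => (c i0 χ : ℤ) + (if χ = B ⟨i1, hi1⟩ then 1 else 0), Or.inr rfl, fun i j hij => ?_,
        fun i χ => ?_⟩
      · by_cases hi : i = i0 <;> by_cases hj : j = i0 <;> simp only [hi, hj, dite_true, dite_false] at hij
        · rw [hi, hj]
        · exact absurd (hij.symm.trans (hB _ _)) (hAB ⟨j, hj⟩)
        · exact absurd (hij.trans (hB _ _)) (hAB ⟨i, hi⟩)
        · exact congrArg Subtype.val (hA hij)
      · by_cases hi : i = i0
        · simp only [hi, dite_true]; ring
        · have := hd ⟨i, hi⟩ χ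
          rw [hB ⟨i, hi⟩ ⟨i1, hi1⟩] at this
          simp only [dif_neg hi]
          linarith
  set X := Finset.univ.image x with hX
  have hcX : ∀ χ, χ ∉ X → ∀ i, (c i χ : ℤ) = cc χ := fun χ hχ i => by
    rw [hcx, if_neg fun h => hχ (by rw [h]; exact Finset.mem_image_of_mem x (Finset.mem_univ i))]; ring
  set m : IrrCharacter G → ℤ := fun χ => (dd χ : ℤ) - (S.q : ℤ) * c i0 χ with hmdef
  have htriv : ∀ χ, e χ ≠ 0 → (∀ i, c i χ = c i0 χ) ∧ m χ = 0 := by
    intro χ hχ
    obtain ⟨t, ht1, ht2⟩ := S.cf_of_trivial hh χ.2 (by rw [he]; exact Nat.cast_ne_zero.2 hχ)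
    have h1 : ∀ i, (c i χ : ℂ) = t := fun i => (hc i χ).symm.trans (ht1 (r i) (hr1 i))
    refine ⟨fun i => Nat.cast_injective ((h1 i).trans (h1 i0).symm), ?_⟩
    have h2 : (dd χ : ℂ) = ((S.q * c i0 χ : ℕ) : ℂ) := by rw [← hdd, ht2 lam hl, Nat.cast_mul, h1]
    rw [hmdef]; simp only
    rw [Nat.cast_injective h2, Nat.cast_mul, sub_self]
  have hex0 : ∀ i, e (x i) = 0 := by
    intro i
    by_contra hne
    obtain ⟨j, hj⟩ := Fintype.exists_ne_of_one_lt_card (show 1 < Fintype.card ι by omega) i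
    have h1 := (htriv _ hne).1
    have h2 : (c i (x i) : ℤ) = c j (x i) := by rw [h1 i, h1 j]
    rw [hcx, hcx, if_pos rfl, if_neg fun h => hj (hxinj h).symm] at h2
    rcases hε with rfl | rfl <;> omega
  have hvalX : ∀ i, val (x i) = ε * η i - cc (x i) := by
    intro i
    simp only [hvaldef, hex0, hcx, add_mul, Finset.sum_add_distrib, ← Finset.mul_sum, hη1, hxinj.eq_iff]
    rw [Finset.sum_eq_single i (fun j _ hj => by simp [Ne.symm hj]) (by simp)]
    simp; ring
  have hεε : ε * ε = 1 := by rcases hε with rfl | rfl <;> norm_num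
  have hsum2 : ∀ (F : IrrCharacter G → ℤ) i j,
      ∑ χ, ((c i χ : ℤ) - c j χ) * F χ = ε * (F (x i) - F (x j)) := by
    intro F i j
    simp only [hcx, add_sub_add_left_eq_sub, ← mul_sub, mul_assoc, ← Finset.mul_sum, sub_mul, ite_mul,
      one_mul, zero_mul, Finset.sum_sub_distrib, Finset.sum_ite_eq', Finset.mem_univ, if_true]
  have hCeq : ∀ i, cc (x i) = cc (x i0) := by
    intro i
    have h := hdu i i0
    rw [hsum2, hvalX, hvalX] at h
    rcases hε with rfl | rfl <;> linarith
  set C := cc (x i0) with hC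
  have hsumX : ∀ F : IrrCharacter G → ℤ, ∑ χ ∈ X, F χ = ∑ i, F (x i) := fun F =>
    Finset.sum_image fun _ _ _ _ h => hxinj h
  -- the column at the noncentral element
  let o : IrrCharacter G := ⟨fun _ => 1, isIrrCharacter_one⟩
  have heo : e o = 1 := by
    have h : S.cf o (fun _ => 1) = ((1 : ℕ) : ℂ) := by
      rw [Nat.cast_one]; exact classInner_irr_self isIrrCharacter_one
    exact Nat.cast_injective ((he o).symm.trans h)
  have hoX : o ∉ X := fun h => by
    obtain ⟨i, -, hi⟩ := Finset.mem_image.1 h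
    have := hex0 i
    rw [hi, heo] at this
    exact one_ne_zero this
  have hvo : val o = 1 := by
    have h := hval o
    have h' : (1 : ℂ) = (val o : ℂ) := h
    exact_mod_cast h'.symm
  have hcol : ∑ χ, val χ * val χ = (S.q : ℤ) * S.q := by
    have h := column_orthogonality (u : G) (u : G)
    rw [if_pos (IsConj.refl _), S.card_centralizer hh hu] at h
    simp only [hval, map_intCast] at h
    have h' : ((∑ χ, val χ * val χ : ℤ) : ℂ) = (((S.q : ℤ) * S.q : ℤ) : ℂ) := by
      rw [Int.cast_sum, Int.cast_mul, Int.cast_natCast, ← Nat.cast_mul, ← pow_two, ← h]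
      exact Finset.sum_congr rfl fun χ _ => Int.cast_mul _ _
    exact_mod_cast h'
  have hC0 : C = 0 := by
    have hle : ∑ χ ∈ insert o X, val χ * val χ ≤ ∑ χ, val χ * val χ :=
      Finset.sum_le_univ_sum_of_nonneg fun χ => mul_self_nonneg _
    rw [Finset.sum_insert hoX, hvo, hsumX, hcol] at hle
    have hexp : ∑ i, val (x i) * val (x i) =
        ((S.q : ℤ) * S.q - S.q + 1) + 2 * ε * C + ((S.q : ℤ) + 1) * (C * C) := by
      simp only [hvalX, hCeq]
      rw [Finset.sum_congr rfl (g := fun i => η i * η i - 2 * ε * C * η i + C * C) fun i _ => by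
        linear_combination (η i * η i) * hεε, Finset.sum_add_distrib, Finset.sum_sub_distrib,
        ← Finset.mul_sum, hη1, hη2, Finset.sum_const, Finset.card_univ, hιc, nsmul_eq_mul]
      simp only [Nat.cast_add, Nat.cast_one]
      ring
    rw [hexp] at hle
    by_contra hC0
    have h5 : (4 : ℤ) ≤ S.q := by exact_mod_cast hq4
    rcases lt_or_gt_of_ne hC0 with h1 | h1 <;> rcases hε with rfl | rfl
    · nlinarith [mul_nonneg (show (0 : ℤ) ≤ S.q + 1 by omega) (mul_nonneg (show 0 ≤ -C by omega) (show 0 ≤ -C - 1 by omega)), mul_nonneg (show (0 : ℤ) ≤ S.q - 1 by omega) (show 0 ≤ -C - 1 by omega)]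
    · nlinarith [mul_nonneg (show (0 : ℤ) ≤ S.q + 1 by omega) (mul_nonneg (show 0 ≤ -C by omega) (show 0 ≤ -C - 1 by omega)), mul_nonneg (show (0 : ℤ) ≤ S.q + 3 by omega) (show 0 ≤ -C - 1 by omega)]
    · nlinarith [mul_nonneg (show (0 : ℤ) ≤ S.q + 1 by omega) (mul_nonneg (show 0 ≤ C by omega) (show 0 ≤ C - 1 by omega)), mul_nonneg (show (0 : ℤ) ≤ S.q + 3 by omega) (show 0 ≤ C - 1 by omega)]
    · nlinarith [mul_nonneg (show (0 : ℤ) ≤ S.q + 1 by omega) (mul_nonneg (show 0 ≤ C by omega) (show 0 ≤ C - 1 by omega)), mul_nonneg (show (0 : ℤ) ≤ S.q - 1 by omega) (show 0 ≤ C - 1 by omega)]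
  have hε1 : ε = 1 := by
    have h := hcx i0 (x i0)
    rw [if_pos rfl, ← hC, hC0] at h
    rcases hε with h' | h'
    · exact h'
    · exfalso; omega
  subst hε1
  have hcXX : ∀ i j, (c j (x i) : ℤ) = if i = j then 1 else 0 := by
    intro i j
    rw [hcx, hCeq, hC0]
    simp [hxinj.eq_iff]
  have hdegX : ∀ i, (deg (x i) : ℤ) = ((S.q : ℤ) - 1) * (1 + (S.q : ℤ) * dd (x i)) := by
    intro i
    rw [hdegval, hex0, Finset.sum_congr rfl fun j _ => hcXX i j, Finset.sum_ite_eq,
      if_pos (Finset.mem_univ _)]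
    simp only [Nat.cast_zero]
    ring
  set D0 : ℤ := (dd (x i0) : ℤ) with hD0
  have hDd : ∀ i, (dd (x i) : ℤ) = D0 := by
    intro i
    have h := hdo i i0
    rw [hsum2, hdegX, hdegX, one_mul] at h
    have h5 : (4 : ℤ) ≤ S.q := by exact_mod_cast hq4
    have h6 : (((S.q : ℤ) - 1) * (S.q : ℤ)) * ((dd (x i) : ℤ) - D0) = 0 := by rw [hD0]; linear_combination h
    rcases mul_eq_zero.1 h6 with h7 | h7
    · exfalso; nlinarith
    · linarith
  have hD1 : 1 ≤ D0 := by
    by_contra hlt
    have hd0 : dd (x i0) = 0 := by omega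
    obtain ⟨z, hz⟩ : ∃ z : Subgroup.center S.U, z ≠ 1 := by
      by_contra h
      push Not at h
      exact hl (MonoidHom.ext fun z => by rw [h z, map_one, MonoidHom.one_apply])
    have hone' : ∑ μ : S.U →* ℂˣ, S.cf (x i0) (fun v => (μ v : ℂ)) = (x i0 : G → ℂ) 1 := by
      rw [S.expand_one hh (x i0).2.isClassFunction hl, hdd, hd0, Nat.cast_zero, mul_zero, add_zero]
    have hlc := S.lin_cf_eq hh (x i0 : G → ℂ) 1
    simp only [map_one, Units.val_one, mul_one, hone'] at hlc
    rw [eq_inv_mul_iff_mul_eq₀ hq0, ← Finset.add_sum_erase _ _ (Finset.mem_univ (1 : Subgroup.center S.U)),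
      Finset.sum_congr rfl (g := fun _ => (x i0 : G → ℂ) (z : S.U)) fun w hw =>
        S.const_center hh (x i0).2.isClassFunction (fun e' => hz (Subtype.ext e')) z.2
          (fun e' => Finset.ne_of_mem_erase hw (Subtype.ext e')) w.2,
      Finset.sum_const, Finset.card_erase_of_mem (Finset.mem_univ _), Finset.card_univ,
      ← Nat.card_eq_fintype_card, S.card_center, nsmul_eq_mul, OneMemClass.coe_one, OneMemClass.coe_one,
      Nat.cast_sub (by omega), Nat.cast_one] at hlc
    have hq1 : (S.q : ℂ) - 1 ≠ 0 := sub_ne_zero.2 (Nat.cast_ne_one.2 (by omega))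
    have hker : (x i0 : G → ℂ) (z : S.U) = (x i0 : G → ℂ) 1 :=
      mul_left_cancel₀ hq1 (by linear_combination -hlc)
    haveI := charKer_normal (x i0).2.isCharacter
    have htop : charKer (x i0).2.isCharacter = ⊤ :=
      (Subgroup.Normal.eq_bot_or_eq_top inferInstance).resolve_left fun hb => by
        have hm : ((z : S.U) : G) ∈ charKer (x i0).2.isCharacter := (mem_charKer _).2 hker
        rw [hb, Subgroup.mem_bot] at hm
        exact hz (Subtype.ext (Subtype.ext hm))
    have hne : (x i0 : G → ℂ) ≠ fun _ => 1 := fun e' =>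
      hoX (by rw [show o = x i0 from Subtype.ext e'.symm]; exact Finset.mem_image_of_mem x (Finset.mem_univ _))
    have h0 := classInner_irr_ne (x i0).2 isIrrCharacter_one hne
    rw [classInner_one_right, Finset.sum_congr rfl fun g _ =>
        (mem_charKer _).1 (htop ▸ Subgroup.mem_top g : g ∈ charKer (x i0).2.isCharacter),
      Finset.sum_const, nsmul_eq_mul, hdeg, mul_eq_zero, inv_eq_zero, mul_eq_zero] at h0
    rcases h0 with h0 | h0 | h0
    · exact card_cast_ne_zero h0
    · rw [Nat.cast_eq_zero, Finset.card_univ] at h0; exact Fintype.card_ne_zero h0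
    · rw [Nat.cast_eq_zero] at h0; exact (hdeg0 _).ne' h0
  -- the second induced function
  let fα : S.U → ℂ := S.psi lam - (S.q : ℂ) • fun v => (r i0 v : ℂ)
  have hpsi := S.psi_irr hh hl
  have hpsi1 : S.psi lam 1 = (S.q : ℂ) := by
    rw [show (1 : S.U) = ((1 : Subgroup.center S.U) : S.U) from rfl, S.psi_center, map_one, Units.val_one,
      mul_one]
  have hα1 : fα 1 = 0 := by simp [fα, hpsi1]
  have hαc : IsClassFunction S.U fα := fun a b => by
    simp only [fα, Pi.sub_apply, Pi.smul_apply, hpsi.isClassFunction a b,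
      (isIrrCharacter_linear (r i0)).isClassFunction a b]
  have hαk : ∀ χ : IrrCharacter G, S.cf χ fα = (m χ : ℂ) := by
    intro χ
    show classInner _ (S.psi lam - (S.q : ℂ) • fun v => (r i0 v : ℂ)) = _
    rw [classInner_sub_right, classInner_smul_right, Complex.conj_natCast,
      show classInner (fun v : S.U => (χ : G → ℂ) v) (S.psi lam) = (dd χ : ℂ) from hdd χ,
      show classInner (fun v : S.U => (χ : G → ℂ) v) (fun v => (r i0 v : ℂ)) = (c i0 χ : ℂ) from hc i0 χ]
    simp [hmdef]
  have hmm : ∑ χ, m χ * m χ = (S.q : ℤ) * S.q + 1 := by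
    have h := (S.ind_parseval _ _ hαk hαk).symm.trans (S.ind_inner hαc hα1)
    have hterm : ∀ d : S.D, classInner fα (fun v => fα (S.conjU d v)) =
        if d = 1 then (((S.q : ℤ) * S.q + 1 : ℤ) : ℂ) else 0 := by
      intro d
      have hp' : IsIrrCharacter S.U (fun v => S.psi lam (S.conjU d v)) :=
        IsIrrCharacter.comp_surjective hpsi (S.conjU d).toMonoidHom (MulEquiv.surjective _)
      have hne1 : (S.q : ℂ) ≠ 1 := Nat.cast_ne_one.2 (by omega)
      have h1 : classInner (fun v => (r i0 v : ℂ)) (fun v => S.psi lam (S.conjU d v)) = 0 :=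
        classInner_irr_ne (isIrrCharacter_linear _) hp' fun e' => hne1 (by
          have := congrFun e' 1
          simp only [map_one, Units.val_one, hpsi1] at this
          exact this.symm)
      have h2 : classInner (S.psi lam) (fun v => (r i0 (S.conjU d v) : ℂ)) = 0 :=
        S.psi_lin hh lam hl (S.twist (r i0) d)
      rw [show (fun v => fα (S.conjU d v)) = (fun v => S.psi lam (S.conjU d v)) -
          (S.q : ℂ) • fun v => (r i0 (S.conjU d v) : ℂ) from rfl]
      simp only [fα, classInner_sub_left, classInner_sub_right, classInner_smul_left, classInner_smul_right,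
        Complex.conj_natCast, h1, h2, hdel, S.psi_twist hh hl]
      simp only [Int.cast_add, Int.cast_mul, Int.cast_natCast, Int.cast_one, true_and]
      split_ifs <;> ring
    simp only [hterm, Finset.sum_ite_eq', Finset.mem_univ, if_true] at h
    exact_mod_cast h
  have hmu : ∑ χ, m χ * val χ = -((S.q : ℤ) * η i0) := by
    have h := S.ind_expand _ hαk (u : G)
    rw [S.indFun_U hαc hu1] at h
    have hoff : ∀ d : S.D, S.psi lam (S.conjU d u) = 0 := fun d =>
      S.psi_off _ fun hm => hu ((S.conjU_center_iff d u).1 hm)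
    simp only [fα, Pi.sub_apply, Pi.smul_apply, smul_eq_mul, hoff, zero_sub, Finset.sum_neg_distrib,
      ← Finset.mul_sum, hη, hval] at h
    have h' : ((∑ χ, m χ * val χ : ℤ) : ℂ) = ((-((S.q : ℤ) * η i0) : ℤ) : ℂ) := by
      simp only [Int.cast_sum, Int.cast_mul, Int.cast_neg, Int.cast_natCast]
      exact h.symm
    exact_mod_cast h'
  have hmX : ∀ i, m (x i) = D0 - (S.q : ℤ) * (if i = i0 then 1 else 0) := fun i => by
    simp only [hmdef, hDd, hcXX]
  have hXmm : ∑ χ ∈ X, m χ * m χ = ((S.q : ℤ) + 1) * (D0 * D0) - 2 * S.q * D0 + (S.q : ℤ) * S.q := by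
    rw [hsumX]
    simp only [hmX]
    rw [Finset.sum_congr rfl (g := fun i => D0 * D0 + if i = i0 then (S.q : ℤ) * S.q - 2 * S.q * D0 else 0)
        fun i _ => by split_ifs <;> ring,
      Finset.sum_add_distrib, Finset.sum_ite_eq', if_pos (Finset.mem_univ _), Finset.sum_const,
      Finset.card_univ, hιc, nsmul_eq_mul]
    simp only [Nat.cast_add, Nat.cast_one]
    ring
  have hD01 : D0 = 1 := by
    have hle : ∑ χ ∈ X, m χ * m χ ≤ ∑ χ, m χ * m χ :=
      Finset.sum_le_univ_sum_of_nonneg fun χ => mul_self_nonneg _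
    rw [hXmm, hmm] at hle
    have h5 : (4 : ℤ) ≤ S.q := by exact_mod_cast hq4
    by_contra hne
    have h2 : 2 ≤ D0 := by omega
    nlinarith [mul_le_mul_of_nonneg_left h2 (show (0 : ℤ) ≤ D0 by omega)]
  -- the character of impossible degree
  obtain ⟨χ, hχX, hodd⟩ : ∃ χ, χ ∉ X ∧ Odd (m χ * val χ) := by
    by_contra hcon
    push Not at hcon
    have hev : Even (∑ χ ∈ Finset.univ \ X, m χ * val χ) := even_iff_two_dvd.2
      (Finset.dvd_sum fun χ hχ => even_iff_two_dvd.1 (Int.not_odd_iff_even.1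
        (hcon χ (Finset.mem_sdiff.1 hχ).2)))
    have h := Finset.sum_sdiff (Finset.subset_univ X) (f := fun χ => m χ * val χ)
    have hXs : ∑ χ ∈ X, m χ * val χ = -1 - (S.q : ℤ) * η i0 := by
      rw [hsumX]
      simp only [hmX, hvalX, hCeq, hC0, hD01, one_mul, sub_zero, sub_mul]
      rw [Finset.sum_sub_distrib, hη1]
      simp [mul_assoc, ite_mul, Finset.sum_ite_eq', Finset.mul_sum]
    rw [hmu, hXs] at h
    obtain ⟨t, ht⟩ := hev
    omega
  obtain ⟨hmo, hvo'⟩ := Int.odd_mul.1 hodd
  have he0 : e χ = 0 := by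
    by_contra hne
    rw [(htriv χ hne).2] at hmo
    exact absurd hmo (by decide)
  have hco : Odd (c i0 χ : ℤ) := by
    have hv : val χ = -(cc χ) := by
      simp only [hvaldef, he0, hcX χ hχX, ← Finset.mul_sum, hη1]
      simp
    rw [hv, odd_neg] at hvo'
    rwa [hcX χ hχX i0]
  have hmsq : m χ * m χ ≤ (S.q : ℤ) := by
    have hle : ∑ ψ ∈ insert χ X, m ψ * m ψ ≤ ∑ ψ, m ψ * m ψ :=
      Finset.sum_le_univ_sum_of_nonneg fun ψ => mul_self_nonneg _
    rw [Finset.sum_insert hχX, hXmm, hmm, hD01] at hle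
    linarith
  set E : ℤ := ((S.q : ℤ) * S.q + S.q + 1) * c i0 χ + S.q * m χ with hE
  have hdχ : (deg χ : ℤ) = ((S.q : ℤ) - 1) * E := by
    rw [hdegval, he0, Finset.sum_congr rfl (g := fun _ => (c i0 χ : ℤ)) fun i _ =>
        (hcX χ hχX i).trans (hcX χ hχX i0).symm,
      Finset.sum_const, Finset.card_univ, hιc, nsmul_eq_mul, hE]
    simp only [hmdef, Nat.cast_add, Nat.cast_one, Nat.cast_zero]
    ring
  have h5 : (4 : ℤ) ≤ S.q := by exact_mod_cast hq4
  have hEpos : 0 < E := by
    have : (0 : ℤ) < deg χ := by exact_mod_cast hdeg0 χ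
    rw [hdχ] at this
    exact (pos_iff_pos_of_mul_pos this).1 (by omega)
  obtain ⟨n, hn, hn2⟩ := S.exists_q_eq
  have hqe : Even (S.q : ℤ) := by
    rw [hn, Nat.cast_pow]; exact Int.even_pow.2 ⟨even_two, by omega⟩
  have hdvd : E ∣ (S.q : ℤ) ^ 3 + 1 := by
    have h := degree_dvd_card χ.2 (hdeg χ)
    rw [S.card_G, hh] at h
    have h' := Int.natCast_dvd_natCast.2 h
    have hcast : ∀ Q : ℕ, 1 ≤ Q → (((Q ^ 3 + 1) * (Q ^ 3 * (Q - 1)) : ℕ) : ℤ) =
        ((Q : ℤ) - 1) * (((Q : ℤ) ^ 3 + 1) * (Q : ℤ) ^ 3) := fun Q hQ => by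
      push_cast [Nat.cast_sub hQ]; ring
    rw [hdχ, hcast S.q (by omega)] at h'
    have h'' := (mul_dvd_mul_iff_left (show (S.q : ℤ) - 1 ≠ 0 by omega)).1 h'
    refine IsCoprime.dvd_of_dvd_mul_right ?_ h''
    rw [hn, Nat.cast_pow, Nat.cast_ofNat, ← pow_mul]
    refine IsCoprime.pow_right ?_
    rw [Int.isCoprime_iff_gcd_eq_one]
    have hEo : Odd E := by
      rw [hE]
      exact ((((hqe.mul_right _).add hqe).add_one).mul hco).add_even (hqe.mul_right _)
    obtain ⟨t, ht⟩ := hEo
    have : Int.gcd E 2 ∣ 2 := by exact_mod_cast Int.gcd_dvd_right (a := E) (b := 2)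
    rcases (Nat.dvd_prime Nat.prime_two).1 this with h1 | h1
    · exact h1
    · have h2 := Int.gcd_dvd_left (a := E) (b := 2)
      rw [h1] at h2
      omega
  obtain ⟨k, hk⟩ := hdvd
  refine cube_arith (q := (S.q : ℤ)) (by rw [hn]; push_cast; rfl) hn2 hco (by positivity) hmo hmsq
    (k := k) ?_ (by rw [← hE, mul_comm]; exact hk.symm)
  have : (0 : ℤ) < E * k := by rw [← hk]; positivity
  exact (pos_iff_pos_of_mul_pos this).1 hEpos

end ZSetup

/-- The kernel has order the square of the order of its centre. -/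
theorem ZSetup.h_eq_sq {G : Type u} {Ω : Type v} [Group G] [Finite G] [MulAction G Ω] [Fintype Ω]
    [IsSimpleGroup G] (S : ZSetup G Ω) : S.h = S.q ^ 2 := by
  refine S.h_cases.resolve_right fun hh => ?_
  haveI := Fintype.ofFinite G
  haveI := Fintype.ofFinite S.U
  haveI := Fintype.ofFinite S.D
  exact S.cube_false hh

end Cfsg.Lib.ZasSuzuki
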