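import Cfsg.Agent.Lib.Perm.ZasSuzuki.QSquare
import Cfsg.Agent.Lib.Perm.ZasSuzuki.Cube
import Cfsg.Agent.Lib.TwoGroup.SuzukiSquare

/-!
# Simple Zassenhaus groups with a nonabelian regular two-subgroup

The kernel is of type A with `|U| = q ^ 2`, and `q` is an odd power of two.
-/

set_option autoImplicit false
set_option linter.unusedSectionVars false
set_option linter.style.haveILetI false

namespace Cfsg.Lib.ZasSuzuki

open Cfsg

universe u v

variable {G : Type u} {Ω : Type v} [Group G] [Finite G] [MulAction G Ω] [Fintype Ω] [IsSimpleGroup G]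

/-- The structure of the group. -/
theorem ZSetup.structure_result (S : ZSetup G Ω) :
    ∃ n : ℕ, Odd n ∧ 1 < n ∧ Fintype.card Ω = 2 ^ (2 * n) + 1 ∧
      IsCyclic S.D ∧ Nat.card S.D = 2 ^ n - 1 ∧
      Nat.card G = (2 ^ n) ^ 2 * ((2 ^ n) ^ 2 + 1) * (2 ^ n - 1) ∧
      ∃ (F : Type) (_ : Field F) (_ : Fintype F) (φ : F ≃+* F), Fintype.card F = 2 ^ n ∧
        Nonempty (S.U ≃* Cfsg.suzukiTypeA F (φ : F →+* F)) := by
  obtain ⟨n, hn, hn2⟩ := S.exists_q_eq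
  have hsq := S.h_eq_sq
  obtain ⟨F, hF1, hF2, φ, hFc, -, -, hiso⟩ :=
    Cfsg.Lib.Suzuki2.type_a_of_card_sq S.isSuzukiTwoGroup (by rw [S.card_center]; exact hsq)
  refine ⟨n, S.odd_exp hsq hn, hn2, ?_, (Cfsg.Agent.S0345.result S.hZ S.hab).1, ?_, ?_,
    F, hF1, hF2, φ, by rw [hFc, S.card_center, hn], hiso⟩
  · rw [S.card_omega, hsq, hn, ← pow_mul, mul_comm n 2]
  · rw [← hn]; simp [q]
  · rw [S.card_G, hsq, hn]; ring

/-- A regular nonabelian two-subgroup gives a setup. -/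
def setupOfRegular (hZ : IsZassenhausGroup G Ω) {a b : Ω} (hab : a ≠ b) (U : Subgroup G)
    (hUle : U ≤ MulAction.stabilizer G a)
    (hUn : ∀ h ∈ MulAction.stabilizer G a, ∀ u ∈ U, h * u * h⁻¹ ∈ U)
    (hreg : ∀ c d : Ω, c ≠ a → d ≠ a → ∃! u : U, (u : G) • c = d)
    (hU2 : IsPGroup 2 U) (hna : ∃ u ∈ U, ∃ v ∈ U, u * v ≠ v * u) : ZSetup G Ω where
  a := a
  b := b
  U := U
  hab := hab
  hZ := hZ
  hUa := hUle
  hUn := hUn
  hcard := (Cfsg.Lib.Perm.ZasAbelian.kernel_of_regular U hUle hreg hab).1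
  hfix := (Cfsg.Lib.Perm.ZasAbelian.kernel_of_regular U hUle hreg hab).2
  hU2 := hU2
  hna := hna

end Cfsg.Lib.ZasSuzuki
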