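import Cfsg.Agent.Lib.Perm.ZasSuzuki.Tori

/-!
# The kernel of order the square of the centre

There are two classes of tori; their orders multiply to `q ^ 2 + 1` and sum to `2 * q + 2`.
-/

set_option autoImplicit false
set_option linter.unusedSectionVars false
set_option linter.style.haveILetI false

namespace Cfsg.Lib.ZasSuzuki

open Cfsg Cfsg.Lib.Char
open scoped commutatorElement

universe u v

/-- Vieta descent. -/
theorem vieta_one : ∀ N : ℕ, ∀ a b k : ℤ, a + b ≤ N → 1 ≤ a → 1 ≤ b → 1 ≤ k →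
    (a + b - 2) ^ 2 + 4 = 4 * k * a * b → k = 1 := by
  intro N
  induction N with
  | zero => intro a b k h ha hb; omega
  | succ N ih =>
    have main : ∀ a b k : ℤ, a + b ≤ N + 1 → 1 ≤ a → a ≤ b → 1 ≤ k →
        (a + b - 2) ^ 2 + 4 = 4 * k * a * b → k = 1 := by
      intro a b k h ha hab hk heq
      set b' : ℤ := (4 * k - 2) * a + 4 - b with hb'
      have hprod : b * b' = a ^ 2 - 4 * a + 8 := by rw [hb']; linear_combination (-1) * heq
      have hb'pos : 1 ≤ b' := by
        by_contra hh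
        push Not at hh
        nlinarith [sq_nonneg (a - 2)]
      by_cases h3 : 3 ≤ a
      · by_cases hlt : b' < b
        · exact ih a b' k (by push_cast at h ⊢; omega) ha hb'pos hk (by rw [hb']; linear_combination heq)
        · push Not at hlt
          exfalso
          have : b * b ≤ b * b' := mul_le_mul_of_nonneg_left hlt (by omega)
          nlinarith
      · have hb5 : b ≤ 5 := by
          have : b * 1 ≤ b * b' := mul_le_mul_of_nonneg_left hb'pos (by omega)
          interval_cases a <;> omega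
        interval_cases a <;> interval_cases b <;> omega
    intro a b k h ha hb hk heq
    push_cast at h
    rcases le_total a b with hab | hab
    · exact main a b k h ha hab hk heq
    · exact main b a k (by omega) hb hab hk (by linear_combination heq)

theorem not_dvd_succ {q : ℕ} (hq : 4 ≤ q) : ¬ q + 1 ∣ q * q + 1 := by
  intro hd
  have hz : ((q + 1 : ℕ) : ℤ) ∣ ((q * q + 1 : ℕ) : ℤ) := Int.natCast_dvd_natCast.2 hd
  push_cast at hz
  have h1 := dvd_sub hz (dvd_mul_left ((q : ℤ) + 1) ((q : ℤ) - 1))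
  rw [show (q : ℤ) * q + 1 - ((q : ℤ) - 1) * ((q : ℤ) + 1) = 2 by ring] at h1
  have := Int.le_of_dvd (by norm_num) h1
  omega

theorem not_dvd_two_mul_succ {q : ℕ} (hq : 4 ≤ q) : ¬ 2 * q + 1 ∣ q * q + 1 := by
  intro hd
  have hz : ((2 * q + 1 : ℕ) : ℤ) ∣ ((q * q + 1 : ℕ) : ℤ) := Int.natCast_dvd_natCast.2 hd
  push_cast at hz
  have h1 := dvd_sub (hz.mul_left 4) (dvd_mul_left (2 * (q : ℤ) + 1) (2 * (q : ℤ) - 1))
  rw [show 4 * ((q : ℤ) * q + 1) - (2 * (q : ℤ) - 1) * (2 * (q : ℤ) + 1) = 5 by ring] at h1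
  have := Int.le_of_dvd (by norm_num) h1
  omega

theorem odd_exponent {n : ℕ} {x : ℤ} (h : x ^ 2 = 8 * 2 ^ n) : Odd n := by
  have h2 : x.natAbs ^ 2 = 2 ^ (n + 3) := by
    have e : ((x.natAbs ^ 2 : ℕ) : ℤ) = ((2 ^ (n + 3) : ℕ) : ℤ) := by
      push_cast
      rw [sq_abs, h]
      ring
    exact_mod_cast e
  have hne : x.natAbs ≠ 0 := fun e => by
    rw [e] at h2
    simp at h2
    exact absurd h2.symm (by positivity)
  have h3 := congrArg (fun m => m.factorization 2) h2
  simp only [Nat.factorization_pow, Finsupp.smul_apply, smul_eq_mul,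
    Nat.Prime.factorization_self Nat.prime_two, mul_one] at h3
  exact Nat.odd_iff.2 (by omega)

variable {G : Type u} {Ω : Type v} [Group G] [Finite G] [MulAction G Ω] [Fintype Ω] [IsSimpleGroup G]

namespace ZSetup

variable (S : ZSetup G Ω)

include S

/-- In a kernel of order `q ^ 2` an element is determined by its square up to the centre. -/
theorem sq_inj (hh : S.h = S.q ^ 2) {u v : S.U} (h : u * u = v * v) :
    (u⁻¹ * v) * (u⁻¹ * v) = 1 := by
  classical
  haveI := Fintype.ofFinite S.U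
  set Z := Subgroup.center S.U with hZdef
  have hcen : ∀ {z : S.U}, z ∈ Z → ∀ x : S.U, x * z = z * x := fun hz x =>
    Subgroup.mem_center_iff.1 hz x
  let sq : S.U ⧸ Z → Z := Quotient.lift (fun p : S.U => (⟨p * p, S.sq_center p⟩ : Z)) fun a b hab => by
    have hz : a⁻¹ * b ∈ Z := QuotientGroup.leftRel_apply.1 hab
    refine Subtype.ext ?_
    show a * a = b * b
    conv_rhs => rw [← mul_inv_cancel_left a b]
    rw [mul_assoc a (a⁻¹ * b), ← mul_assoc (a⁻¹ * b) a, ← hcen hz a, mul_assoc a (a⁻¹ * b),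
      (S.center_iff _).1 hz, mul_one]
  obtain ⟨-, -, -, -, K, -, hK⟩ := S.isSuzukiTwoGroup
  obtain ⟨p₀, hp₀⟩ : ∃ p₀ : S.U, p₀ * p₀ ≠ 1 := by
    obtain ⟨a, ha, b, hb, hab⟩ := S.hna
    refine ⟨⟨a, ha⟩, fun e => hab ?_⟩
    exact congrArg Subtype.val (hcen ((S.center_iff _).2 e) ⟨b, hb⟩).symm
  have hsurj : Function.Surjective sq := by
    rintro ⟨z, hz⟩
    by_cases hz1 : z = 1
    · exact ⟨((1 : S.U) : S.U ⧸ Z), Subtype.ext ((one_mul (1 : S.U)).trans hz1.symm)⟩
    obtain ⟨k, hk, -⟩ := hK (p₀ * p₀) z hp₀ ((S.center_iff _).1 (S.sq_center p₀)) hz1 ((S.center_iff _).1 hz)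
    refine ⟨(((k : MulAut S.U) p₀ : S.U) : S.U ⧸ Z), Subtype.ext ?_⟩
    show (k : MulAut S.U) p₀ * (k : MulAut S.U) p₀ = z
    rw [← map_mul, hk]
  have hcardq : Fintype.card (S.U ⧸ Z) = Fintype.card Z := by
    rw [← Nat.card_eq_fintype_card, ← Nat.card_eq_fintype_card]
    have h1 := Subgroup.card_eq_card_quotient_mul_card_subgroup Z
    rw [show Nat.card S.U = S.q ^ 2 from hh, S.card_center, pow_two] at h1
    rw [S.card_center]
    exact (Nat.eq_of_mul_eq_mul_right (Nat.succ_pos _) h1).symm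
  have hinj := ((Fintype.bijective_iff_surjective_and_card sq).2 ⟨hsurj, hcardq⟩).1
  have := hinj (a₁ := (u : S.U ⧸ Z)) (a₂ := (v : S.U ⧸ Z)) (Subtype.ext h)
  exact (S.center_iff _).1 (QuotientGroup.eq.1 this)

/-- The same, for elements commuting with an involution. -/
theorem sq_inj_invol (hh : S.h = S.q ^ 2) {w x y : G} (hw : orderOf w = 2) (hx : x * w = w * x)
    (hy : y * w = w * y) (hxy : x * x = y * y) : (x⁻¹ * y) * (x⁻¹ * y) = 1 := by
  obtain ⟨g, hwU, hxU⟩ := S.invol_centralizer hw hx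
  have hyU : g * y * g⁻¹ ∈ S.U := by
    refine S.centralizer_le hwU (fun e => ?_) ?_
    · rw [mul_inv_eq_one, mul_eq_left] at e
      rw [e, orderOf_one] at hw
      omega
    · calc g * y * g⁻¹ * (g * w * g⁻¹) = g * (y * w) * g⁻¹ := by group
        _ = g * w * g⁻¹ * (g * y * g⁻¹) := by rw [hy]; group
  have := congrArg Subtype.val (S.sq_inj hh (u := ⟨_, hxU⟩) (v := ⟨_, hyU⟩) (Subtype.ext (by
    show g * x * g⁻¹ * (g * x * g⁻¹) = g * y * g⁻¹ * (g * y * g⁻¹)
    calc _ = g * (x * x) * g⁻¹ := by group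
      _ = _ := by rw [hxy]; group)))
  have h2 : g * ((x⁻¹ * y) * (x⁻¹ * y)) * g⁻¹ = 1 := by
    refine Eq.trans ?_ this
    show _ = (g * x * g⁻¹)⁻¹ * (g * y * g⁻¹) * ((g * x * g⁻¹)⁻¹ * (g * y * g⁻¹))
    group
  rwa [mul_inv_eq_one, mul_eq_left] at h2

/-- Fourth powers in the centralizer of an involution are trivial. -/
theorem pow_four_invol {w x : G} (hw : orderOf w = 2) (hx : x * w = w * x) : (x * x) * (x * x) = 1 := by
  obtain ⟨g, -, hxU⟩ := S.invol_centralizer hw hx
  have h1 : (g * x * g⁻¹ * (g * x * g⁻¹)) * (g * x * g⁻¹ * (g * x * g⁻¹)) = 1 :=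
    congrArg Subtype.val ((S.center_iff _).1 (S.sq_center ⟨_, hxU⟩))
  have h2 : g * ((x * x) * (x * x)) * g⁻¹ = 1 := by
    rw [← h1]; group
  rwa [mul_inv_eq_one, mul_eq_left] at h2

/-- The normalizer of a torus. -/
theorem torus_normalizer (hh : S.h = S.q ^ 2) {x : G} (hx : IsRealFree Ω x) :
    ∃ m : ℕ, (m = 2 ∨ m = 4) ∧ m ∣ Nat.card (Subgroup.centralizer ({x} : Set G)) - 1 ∧
      Nat.card (Subgroup.normalizer ((Subgroup.centralizer ({x} : Set G) : Subgroup G) : Set G)) =
        Nat.card (Subgroup.centralizer ({x} : Set G)) * m ∧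
      3 ≤ Nat.card (Subgroup.centralizer ({x} : Set G)) ∧
      Odd (Nat.card (Subgroup.centralizer ({x} : Set G))) ∧
      Nat.card (Subgroup.centralizer ({x} : Set G)) ∣ Fintype.card Ω := by
  classical
  haveI := Fintype.ofFinite G
  obtain ⟨w, hw, hwx⟩ := hx.2
  set T : Subgroup G := Subgroup.centralizer ({x} : Set G) with hT
  set N : Subgroup G := Subgroup.normalizer (T : Set G) with hN
  set W : Subgroup G := N ⊓ Subgroup.centralizer ({w} : Set G) with hW
  have hww : w * w = 1 := by rw [← pow_two, ← hw, pow_orderOf_eq_one]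
  have hTmem : ∀ {y}, y ∈ T ↔ y * x = x * y := fun {y} => Subgroup.mem_centralizer_singleton_iff
  have hxT : x ∈ T := hTmem.2 rfl
  have hinv : ∀ y ∈ T, w * y * w⁻¹ = y⁻¹ := fun y hy => S.torus_invert hx hw hwx y (hTmem.1 hy)
  have hfree : ∀ y ∈ T, y ≠ 1 → ∀ c : Ω, y • c ≠ c := fun y hy h1 => S.free_comm hx.1 (hTmem.1 hy) h1
  have hodd : ∀ y ∈ T, Odd (orderOf y) := fun y hy => by
    by_cases h1 : y = 1
    · rw [h1, orderOf_one]; exact odd_one
    · exact S.free_odd (hfree y hy h1)
  have hcw : ∀ {y}, y ∈ T → y * w = w * y → y = 1 := fun {y} hy h => by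
    obtain ⟨k, hk⟩ := S.invol_centralizer_pow hw h
    exact S.odd_pow_two_eq_one (hodd y hy) hk
  have hTN : T ≤ N := Subgroup.le_normalizer
  have hoddT : Odd (Nat.card T) := by
    by_contra hev
    haveI : Fact (Nat.Prime 2) := ⟨Nat.prime_two⟩
    obtain ⟨y, hy⟩ := exists_prime_orderOf_dvd_card' 2 (even_iff_two_dvd.1 (Nat.not_odd_iff_even.1 hev))
    have := hodd y y.2
    rw [Subgroup.orderOf_coe, hy] at this
    exact Nat.not_odd_iff_even.2 even_two this
  -- `N` is the product of `T` and `W`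
  have hdis : T ⊓ W = ⊥ := (Subgroup.eq_bot_iff_forall _).2 fun y ⟨hy, _, hyw⟩ =>
    hcw hy (Subgroup.mem_centralizer_singleton_iff.1 hyw)
  have hdec : ∀ g ∈ N, ∃ y ∈ T, y⁻¹ * g ∈ W := by
    intro g hg
    have hconj : g * w * g⁻¹ * w ∈ T := by
      rw [hTmem]
      have hgx : g⁻¹ * x * g ∈ T := by
        have := (Subgroup.mem_normalizer_iff.1 (inv_mem hg) x).1 hxT
        rwa [inv_inv] at this
      have h1 : g * w * g⁻¹ * x * (g * w * g⁻¹)⁻¹ = x⁻¹ := by
        calc _ = g * (w * (g⁻¹ * x * g) * w⁻¹) * g⁻¹ := by group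
          _ = x⁻¹ := by rw [hinv _ hgx]; group
      have h2 : w * x = x⁻¹ * w := by rw [← hwx]; group
      have h3 : g * w * g⁻¹ * x⁻¹ = x * (g * w * g⁻¹) := by
        have := congrArg (fun z => z⁻¹) h1
        simp only [inv_inv] at this
        conv_rhs => rw [← this]
        group
      calc g * w * g⁻¹ * w * x = g * w * g⁻¹ * (w * x) := by group
        _ = g * w * g⁻¹ * x⁻¹ * w := by rw [h2]; group
        _ = x * (g * w * g⁻¹ * w) := by rw [h3]; group
    obtain ⟨j, hj⟩ := hodd _ hconj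
    set y := (g * w * g⁻¹ * w) ^ (j + 1) with hy
    have hyT : y ∈ T := pow_mem hconj _
    have hy2 : y * y = g * w * g⁻¹ * w := by
      rw [hy, ← pow_add, show j + 1 + (j + 1) = orderOf (g * w * g⁻¹ * w) + 1 by omega, pow_succ,
        pow_orderOf_eq_one, one_mul]
    refine ⟨y, hyT, mul_mem (hTN (inv_mem hyT)) hg, Subgroup.mem_centralizer_singleton_iff.2 ?_⟩
    have h1 : w * y⁻¹ = y * w := by
      have := hinv y⁻¹ (inv_mem hyT)
      rw [inv_inv] at this
      conv_rhs => rw [← this]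
      group
    calc y⁻¹ * g * w = y⁻¹ * (g * w * g⁻¹ * w) * w⁻¹ * g := by group
      _ = y * w⁻¹ * g := by rw [← hy2]; group
      _ = w * y⁻¹ * g := by rw [inv_eq_of_mul_eq_one_right hww, h1]
      _ = w * (y⁻¹ * g) := by group
  have hcardN : Nat.card N = Nat.card T * Nat.card W := by
    rw [← Nat.card_prod]
    refine (Nat.card_congr (Equiv.ofBijective (fun p : T × W => (⟨p.1 * p.2,
      mul_mem (hTN p.1.2) p.2.2.1⟩ : N)) ⟨fun p r e => ?_, fun g => ?_⟩)).symm
    · have e' : (p.1 : G) * p.2 = r.1 * r.2 := congrArg Subtype.val e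
      have hm : (r.1 : G)⁻¹ * p.1 = r.2 * (p.2 : G)⁻¹ := by
        rw [eq_mul_inv_iff_mul_eq, mul_assoc, e', inv_mul_cancel_left]
      have h1 : (r.1 : G)⁻¹ * p.1 ∈ T ⊓ W :=
        Subgroup.mem_inf.2 ⟨T.mul_mem (T.inv_mem r.1.2) p.1.2, by rw [hm]; exact W.mul_mem r.2.2 (W.inv_mem p.2.2)⟩
      rw [hdis, Subgroup.mem_bot, inv_mul_eq_one] at h1
      rw [h1] at e'
      exact Prod.ext (Subtype.ext h1.symm) (Subtype.ext (mul_left_cancel e'))
    · obtain ⟨y, hy, hyg⟩ := hdec g g.2
      exact ⟨(⟨y, hy⟩, ⟨_, hyg⟩), Subtype.ext (mul_inv_cancel_left y (g : G))⟩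
  have hwN : w ∈ N := by
    refine Subgroup.mem_normalizer_iff.2 fun y => ⟨fun hy => ?_, fun hy => ?_⟩
    · rw [hinv y hy]; exact inv_mem hy
    · have := hinv _ hy
      rw [show w * (w * y * w⁻¹) * w⁻¹ = y by
        calc _ = (w * w) * y * (w * w)⁻¹ := by group
          _ = y := by rw [hww]; group] at this
      rw [this]; exact inv_mem hy
  have hwW : w ∈ W := ⟨hwN, Subgroup.mem_centralizer_singleton_iff.2 rfl⟩
  have hWw : ∀ {z}, z ∈ W → z * w = w * z := fun {z} hz =>
    Subgroup.mem_centralizer_singleton_iff.1 hz.2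
  -- only one involution
  have huniq : ∀ z ∈ W, z * z = 1 → z ≠ 1 → z = w := by
    intro z hz hz2 hz1
    have ho : orderOf z = 2 := orderOf_eq_prime (by rw [pow_two]; exact hz2) hz1
    have hzi : z⁻¹ = z := inv_eq_of_mul_eq_one_right hz2
    let φ : T →* T :=
      { toFun := fun y => ⟨z * y * z⁻¹, (Subgroup.mem_normalizer_iff.1 hz.1 y).1 y.2⟩
        map_one' := Subtype.ext (by simp)
        map_mul' := fun y y' => Subtype.ext (by simp [mul_assoc]) }
    have hfp : MonoidHom.FixedPointFree φ := by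
      intro y hy
      have h1 : z * y * z⁻¹ = y := congrArg Subtype.val hy
      obtain ⟨k, hk⟩ := S.invol_centralizer_pow ho (show (y : G) * z = z * y by
        calc (y : G) * z = z * y * z⁻¹ * z := by rw [h1]
          _ = z * y := by group)
      exact Subtype.ext (S.odd_pow_two_eq_one (hodd y y.2) hk)
    have hφ := MonoidHom.FixedPointFree.coe_eq_inv_of_involutive hfp fun y => Subtype.ext (by
      show z * (z * y * z⁻¹) * z⁻¹ = y
      calc _ = (z * z) * y * (z * z)⁻¹ := by group
        _ = y := by rw [hz2]; group)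
    have hzx : z * x * z⁻¹ = x⁻¹ := congrArg Subtype.val (congrFun hφ ⟨x, hxT⟩)
    have hzw : z * w ∈ T := by
      refine hTmem.2 ?_
      have h3 : z * x⁻¹ * z⁻¹ = x := by rw [show z * x⁻¹ * z⁻¹ = (z * x * z⁻¹)⁻¹ by group, hzx, inv_inv]
      calc z * w * x = z * (w * x * w⁻¹) * w := by group
        _ = z * x⁻¹ * z⁻¹ * (z * w) := by rw [hwx]; group
        _ = x * (z * w) := by rw [h3]
    have h4 := hcw hzw (by rw [mul_assoc, ← mul_assoc w z w, ← hWw hz, mul_assoc z w w])
    rw [eq_inv_of_mul_eq_one_left h4, inv_eq_of_mul_eq_one_right hww]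
  have hWsq : ∀ z ∈ W, z ∉ Subgroup.zpowers w → z * z = w := by
    intro z hz hzn
    refine huniq _ (mul_mem hz hz) (S.pow_four_invol hw (hWw hz)) fun e => hzn ?_
    by_cases hz1 : z = 1
    · rw [hz1]; exact one_mem _
    · rw [huniq z hz e hz1]; exact Subgroup.mem_zpowers w
  have hm : Nat.card W = 2 ∨ Nat.card W = 4 := by
    by_cases hall : ∀ z ∈ W, z ∈ Subgroup.zpowers w
    · left
      rw [show W = Subgroup.zpowers w from le_antisymm hall (Subgroup.zpowers_le.2 hwW),
        Nat.card_zpowers, hw]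
    · right
      push Not at hall
      obtain ⟨z, hz, hzn⟩ := hall
      have hz2 := hWsq z hz hzn
      have hzo : orderOf z = 4 := by
        refine orderOf_eq_prime_pow (p := 2) (n := 1) ?_ ?_
        · rw [pow_one, pow_two, hz2]
          intro e; rw [e, orderOf_one] at hw; omega
        · rw [show 2 ^ (1 + 1) = 2 * 2 from rfl, pow_mul, pow_two z, hz2, pow_two, hww]
      rw [show W = Subgroup.zpowers z from le_antisymm (fun y hy => ?_) (Subgroup.zpowers_le.2 hz),
        Nat.card_zpowers, hzo]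
      by_cases hyn : y ∈ Subgroup.zpowers w
      · exact (Subgroup.zpowers_le.2 (hz2 ▸ mul_mem (Subgroup.mem_zpowers z) (Subgroup.mem_zpowers z))) hyn
      · have h1 := S.sq_inj_invol hh hw (hWw hz) (hWw hy) (hz2.trans (hWsq y hy hyn).symm)
        rw [← mul_inv_cancel_left z y]
        refine mul_mem (Subgroup.mem_zpowers z) ?_
        by_cases h2 : z⁻¹ * y = 1
        · rw [h2]; exact one_mem _
        · rw [huniq _ (mul_mem (inv_mem hz) hy) h1 h2, ← hz2]
          exact mul_mem (Subgroup.mem_zpowers z) (Subgroup.mem_zpowers z)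
  -- `W` acts freely on `T`
  have hdvd : Nat.card W ∣ Nat.card T - 1 := by
    letI : MulAction W {y : T // y ≠ 1} :=
      { smul := fun z y => ⟨⟨z * y * (z : G)⁻¹, (Subgroup.mem_normalizer_iff.1 z.2.1 y).1 y.1.2⟩,
          fun e => y.2 (Subtype.ext (by
            have e' : (z : G) * y * (z : G)⁻¹ = 1 := congrArg Subtype.val e
            rwa [mul_inv_eq_one, mul_eq_left] at e'))⟩
        one_smul := fun y => Subtype.ext (Subtype.ext (by
          show (1 : G) * y * (1 : G)⁻¹ = y
          group))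
        mul_smul := fun z z' y => Subtype.ext (Subtype.ext (by
          show ((z : G) * z') * y * ((z : G) * z')⁻¹ = z * ((z' : G) * y * (z' : G)⁻¹) * (z : G)⁻¹
          group)) }
    have hstab : ∀ y : {y : T // y ≠ 1}, MulAction.stabilizer W y = ⊥ := fun y =>
      (Subgroup.eq_bot_iff_forall _).2 fun z hz => by
        by_contra hz1
        have h1 : (z : G) * y * (z : G)⁻¹ = y := congrArg (fun y : {y : T // y ≠ 1} => ((y : T) : G)) hz
        have h2 : (y : G) * z = z * y := by
          calc (y : G) * z = z * y * (z : G)⁻¹ * z := by rw [h1]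
            _ = z * y := by group
        have hwz : w ∈ Subgroup.zpowers (z : G) := by
          by_cases hzn : (z : G) ∈ Subgroup.zpowers w
          · rw [huniq z z.2 ?_ fun e => hz1 (Subtype.ext e)]
            · exact Subgroup.mem_zpowers w
            obtain ⟨k, hk⟩ := Subgroup.mem_zpowers_iff.1 hzn
            rw [← hk, ← zpow_add, ← two_mul, zpow_mul,
              show w ^ (2 : ℤ) = 1 by rw [zpow_two, hww], one_zpow]
          · rw [← hWsq z z.2 hzn]; exact mul_mem (Subgroup.mem_zpowers _) (Subgroup.mem_zpowers _)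
        obtain ⟨k, hk⟩ := Subgroup.mem_zpowers_iff.1 hwz
        refine y.2 (Subtype.ext (hcw y.1.2 ?_))
        rw [← hk]
        exact (show Commute (y : G) (z : G) from h2).zpow_right k
    have he := Nat.card_congr (MulAction.selfEquivOrbitsQuotientProd hstab)
    rw [Nat.card_prod] at he
    have hc : Nat.card {y : T // y ≠ 1} = Nat.card T - 1 := by
      rw [Nat.card_eq_fintype_card, Fintype.card_subtype_compl, Fintype.card_subtype_eq,
        Nat.card_eq_fintype_card]
    rw [← hc, he]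
    exact dvd_mul_left _ _
  have hTge : 3 ≤ Nat.card T := by
    obtain ⟨j, hj⟩ := hoddT
    have h1 : T ≠ ⊥ := fun e => S.real_ne_one hx ((Subgroup.eq_bot_iff_forall _).1 e x hxT)
    have := (Subgroup.one_lt_card_iff_ne_bot T).2 h1
    omega
  have hstabΩ : ∀ c : Ω, MulAction.stabilizer T c = ⊥ := fun c =>
    (Subgroup.eq_bot_iff_forall _).2 fun y hy => by
      by_contra h1
      exact hfree y y.2 (fun e => h1 (Subtype.ext e)) c hy
  have hΩ : Nat.card T ∣ Fintype.card Ω := by
    rw [← Nat.card_eq_fintype_card (α := Ω), Nat.card_congr (MulAction.selfEquivOrbitsQuotientProd hstabΩ),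
      Nat.card_prod]
    exact dvd_mul_left _ _
  exact ⟨Nat.card W, hm, hdvd, hcardN, hTge, hoddT, hΩ⟩

/-- Tori meeting a common Sylow subgroup are conjugate. -/
theorem torus_coprime {x y : G} (hx : IsRealFree Ω x) (hy : IsRealFree Ω y)
    (hne : ∀ g : G, (Subgroup.centralizer ({x} : Set G)).map (MulAut.conj g).toMonoidHom ≠
      Subgroup.centralizer ({y} : Set G)) :
    Nat.Coprime (Nat.card (Subgroup.centralizer ({x} : Set G)))
      (Nat.card (Subgroup.centralizer ({y} : Set G))) := by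
  classical
  refine Nat.coprime_of_dvd fun p hp h1 h2 => ?_
  haveI := Fact.mk hp
  have key : ∀ {z : G}, IsRealFree Ω z → p ∣ Nat.card (Subgroup.centralizer ({z} : Set G)) →
      ∃ P : Sylow p G, (P : Subgroup G) ≤ Subgroup.centralizer ({z} : Set G) := by
    intro z hz hd
    obtain ⟨y₁, hy₁⟩ := exists_prime_orderOf_dvd_card' p hd
    have hp1 : IsPGroup p (Subgroup.zpowers (y₁ : G)) :=
      IsPGroup.of_card (n := 1) (by rw [Nat.card_zpowers, Subgroup.orderOf_coe, hy₁, pow_one])
    obtain ⟨P, hP⟩ := hp1.exists_le_sylow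
    have hyP : (y₁ : G) ∈ (P : Subgroup G) := hP (Subgroup.mem_zpowers _)
    have hy1 : (y₁ : G) ≠ 1 := fun e => by
      rw [← Subgroup.orderOf_coe, e, orderOf_one] at hy₁
      exact hp.one_lt.ne hy₁
    haveI : Nontrivial (P : Subgroup G) := (Subgroup.nontrivial_iff_ne_bot _).2 fun e =>
      hy1 ((Subgroup.eq_bot_iff_forall _).1 e _ hyP)
    haveI := P.2.center_nontrivial
    obtain ⟨e, he⟩ := exists_ne (1 : Subgroup.center (P : Subgroup G))
    have hcomm : ∀ u ∈ (P : Subgroup G), u * ((e : (P : Subgroup G)) : G) = (e : (P : Subgroup G)) * u :=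
      fun u hu => congrArg Subtype.val (Subgroup.mem_center_iff.1 e.2 ⟨u, hu⟩)
    have hez : ((e : (P : Subgroup G)) : G) ∈ Subgroup.centralizer ({z} : Set G) := by
      rw [← S.torus_eq hz y₁.2 hy1, Subgroup.mem_centralizer_singleton_iff]
      exact (hcomm _ hyP).symm
    refine ⟨P, fun u hu => ?_⟩
    rw [← S.torus_eq hz hez fun e' => he (Subtype.ext (Subtype.ext e')),
      Subgroup.mem_centralizer_singleton_iff]
    exact hcomm u hu
  obtain ⟨P, hP⟩ := key hx h1
  obtain ⟨Q, hQ⟩ := key hy h2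
  obtain ⟨g, hg⟩ := MulAction.exists_smul_eq G P Q
  refine hne g ?_
  haveI : Nontrivial (P : Subgroup G) := (Subgroup.nontrivial_iff_ne_bot _).2 fun e => by
    have := P.dvd_card_of_dvd_card (h1.trans (Subgroup.card_subgroup_dvd_card _))
    rw [e, Subgroup.card_bot, Nat.dvd_one] at this
    exact hp.one_lt.ne this.symm
  obtain ⟨e, he⟩ := exists_ne (1 : (P : Subgroup G))
  have he1 : (e : G) ≠ 1 := fun h => he (Subtype.ext h)
  have heQ : g * (e : G) * g⁻¹ ∈ Subgroup.centralizer ({y} : Set G) := by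
    refine hQ ?_
    rw [← hg, Sylow.coe_subgroup_smul, Subgroup.mem_pointwise_smul_iff_inv_smul_mem, ← map_inv,
      MulAut.smul_def, MulAut.conj_apply]
    convert e.2 using 1
    group
  have hge1 : g * (e : G) * g⁻¹ ≠ 1 := fun h => he1 (by rwa [mul_inv_eq_one, mul_eq_left] at h)
  rw [← S.torus_eq hy heQ hge1, ← S.torus_eq hx (hP e.2) he1]
  ext u
  rw [Subgroup.mem_map_equiv, Subgroup.mem_centralizer_singleton_iff,
    Subgroup.mem_centralizer_singleton_iff, MulAut.conj_symm_apply]
  constructor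
  · intro h
    calc u * (g * e * g⁻¹) = g * ((g⁻¹ * u * g) * e) * g⁻¹ := by group
      _ = g * e * g⁻¹ * u := by rw [h]; group
  · intro h
    calc g⁻¹ * u * g * e = g⁻¹ * (u * (g * e * g⁻¹)) * g := by group
      _ = e * (g⁻¹ * u * g) := by rw [h]; group

/-- The exponent of the order of the centre is odd. -/
theorem odd_exp (hh : S.h = S.q ^ 2) {n : ℕ} (hn : S.q = 2 ^ n) : Odd n := by
  classical
  haveI := Fintype.ofFinite G
  set SR := Finset.univ.filter (fun g : G => IsRealFree Ω g) with hSR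
  let T : G → Subgroup G := fun g => Subgroup.centralizer ({g} : Set G)
  let cls : G → Finset (Subgroup G) := fun g =>
    Finset.univ.image fun k : G => (T g).map (MulAut.conj k).toMonoidHom
  set O := SR.image cls with hO
  have hreal : ∀ {g}, g ∈ SR → IsRealFree Ω g := fun hg => (Finset.mem_filter.1 hg).2
  have hconj : ∀ (g k : G), (T g).map (MulAut.conj k).toMonoidHom = T (k * g * k⁻¹) := by
    intro g k
    ext u
    simp only [T, Subgroup.mem_map_equiv, Subgroup.mem_centralizer_singleton_iff, MulAut.conj_symm_apply]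
    constructor
    · intro h
      calc u * (k * g * k⁻¹) = k * ((k⁻¹ * u * k) * g) * k⁻¹ := by group
        _ = k * g * k⁻¹ * u := by rw [h]; group
    · intro h
      calc k⁻¹ * u * k * g = k⁻¹ * (u * (k * g * k⁻¹)) * k := by group
        _ = g * (k⁻¹ * u * k) := by rw [h]; group
  have hreal_conj : ∀ {g} (k : G), IsRealFree Ω g → IsRealFree Ω (k * g * k⁻¹) := by
    intro g k hg
    obtain ⟨hfree, w, hw, hwg⟩ := hg
    refine ⟨fun c hc => hfree (k⁻¹ • c) ?_, k * w * k⁻¹, ?_, ?_⟩
    · rw [eq_inv_smul_iff, ← mul_smul, ← mul_smul]; exact hc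
    · rw [← MulAut.conj_apply, MulEquiv.orderOf_eq, hw]
    · calc _ = k * (w * g * w⁻¹) * k⁻¹ := by group
        _ = (k * g * k⁻¹)⁻¹ := by rw [hwg]; group
  have hcls : ∀ {g g' : G}, g ∈ SR → g' ∈ SR → (T g' ∈ cls g ↔ cls g' = cls g) := by
    intro g g' _ _
    constructor
    · intro h
      obtain ⟨k, -, hk⟩ := Finset.mem_image.1 h
      ext U'
      simp only [cls, ← hk, Finset.mem_image, Finset.mem_univ, true_and, Subgroup.map_map]
      constructor
      · rintro ⟨l, rfl⟩
        refine ⟨l * k, ?_⟩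
        congr 1
        ext u; simp [mul_assoc]
      · rintro ⟨l, rfl⟩
        refine ⟨l * k⁻¹, ?_⟩
        congr 1
        ext u; simp [mul_assoc]
    · intro h
      rw [← h]
      exact Finset.mem_image.2 ⟨1, Finset.mem_univ _, by rw [hconj]; simp⟩
  -- data of a class
  have hdata : ∀ o ∈ O, ∃ m t : ℕ, (m = 2 ∨ m = 4) ∧ m ∣ t - 1 ∧ 3 ≤ t ∧ Odd t ∧ t ∣ Fintype.card Ω ∧
      o.card * (t * m) = Nat.card G ∧
      (SR.filter fun g => cls g = o).card = o.card * (t - 1) ∧
      (∑ g ∈ SR.filter fun g => cls g = o, Nat.card (T g)) = o.card * (t - 1) * t ∧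
      ∀ g ∈ SR, cls g = o → Nat.card (T g) = t := by
    intro o ho
    obtain ⟨g, hg, rfl⟩ := Finset.mem_image.1 ho
    obtain ⟨m, hm, hdvd, hN, h3, hodd, hΩ⟩ := S.torus_normalizer hh (hreal hg)
    have hcardmap : ∀ k : G, Nat.card ((T g).map (MulAut.conj k).toMonoidHom) = Nat.card (T g) :=
      fun k => Subgroup.card_map_of_injective (MulEquiv.injective (MulAut.conj k))
    have hallt : ∀ g' ∈ SR, cls g' = cls g → Nat.card (T g') = Nat.card (T g) := by
      intro g' hg' h
      obtain ⟨k, -, hk⟩ := Finset.mem_image.1 ((hcls hg hg').2 h)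
      rw [← hk]; exact hcardmap k
    have hocard : (cls g).card * (Nat.card (T g) * m) = Nat.card G := by
      rw [← hN, Nat.card_eq_fintype_card (α := G), ← Finset.card_univ,
        Finset.card_eq_sum_card_image (fun k : G => (T g).map (MulAut.conj k).toMonoidHom) Finset.univ]
      rw [Finset.sum_congr rfl (g := fun _ => Nat.card (Subgroup.normalizer (T g : Set G))) fun V hV => ?_,
        Finset.sum_const, smul_eq_mul]
      obtain ⟨k, -, rfl⟩ := Finset.mem_image.1 hV
      rw [Nat.card_eq_fintype_card, Fintype.card_subtype]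
      refine (Finset.card_equiv (Equiv.mulLeft k) fun u => ?_).symm
      simp only [Finset.mem_filter, Finset.mem_univ, true_and, Equiv.coe_mulLeft,
        Subgroup.mem_normalizer_iff]
      constructor
      · intro h
        ext v
        simp only [Subgroup.mem_map_equiv, MulAut.conj_symm_apply]
        rw [h ((k * u)⁻¹ * v * (k * u)), show u * ((k * u)⁻¹ * v * (k * u)) * u⁻¹ = k⁻¹ * v * k by group]
      · intro h v
        have := SetLike.ext_iff.1 h ((k * u) * v * (k * u)⁻¹)
        simp only [Subgroup.mem_map_equiv, MulAut.conj_symm_apply] at this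
        rwa [show (k * u)⁻¹ * ((k * u) * v * (k * u)⁻¹) * (k * u) = v by group,
          show k⁻¹ * ((k * u) * v * (k * u)⁻¹) * k = u * v * u⁻¹ by group] at this
    have hcount : (SR.filter fun g' => cls g' = cls g).card = (cls g).card * (Nat.card (T g) - 1) := by
      rw [show (SR.filter fun g' => cls g' = cls g) =
        (cls g).biUnion (fun V : Subgroup G => Finset.univ.filter fun u : G => u ∈ V ∧ u ≠ 1) from ?_,
        Finset.card_biUnion ?_]
      · rw [Finset.sum_congr rfl (g := fun _ => Nat.card (T g) - 1) fun V hV => ?_, Finset.sum_const,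
          smul_eq_mul]
        obtain ⟨k, -, rfl⟩ := Finset.mem_image.1 hV
        rw [← hcardmap k, Nat.card_eq_fintype_card, Fintype.card_subtype]
        rw [show (Finset.univ.filter fun u : G => u ∈ (T g).map (MulAut.conj k).toMonoidHom ∧ u ≠ 1) =
          (Finset.univ.filter fun u : G => u ∈ (T g).map (MulAut.conj k).toMonoidHom).erase 1 by
            ext u; simp only [Finset.mem_filter, Finset.mem_univ, true_and, Finset.mem_erase]; tauto,
          Finset.card_erase_of_mem (Finset.mem_filter.2 ⟨Finset.mem_univ _, one_mem _⟩)]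
      · intro V hV V' hV' hne
        rw [Function.onFun, Finset.disjoint_left]
        intro u hu hu'
        obtain ⟨k, -, rfl⟩ := Finset.mem_image.1 hV
        obtain ⟨k', -, rfl⟩ := Finset.mem_image.1 hV'
        simp only [Finset.mem_filter, Finset.mem_univ, true_and] at hu hu'
        refine hne ?_
        rw [hconj, hconj] at *
        exact (S.torus_eq (hreal_conj k (hreal hg)) hu.1 hu.2).symm.trans
          (S.torus_eq (hreal_conj k' (hreal hg)) hu'.1 hu'.2)
      · ext u
        simp only [Finset.mem_filter, Finset.mem_biUnion, Finset.mem_univ, true_and]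
        constructor
        · rintro ⟨hu, hcl⟩
          exact ⟨T u, (hcls hg hu).2 hcl, Subgroup.mem_centralizer_singleton_iff.2 rfl,
            S.real_ne_one (hreal hu)⟩
        · rintro ⟨V, hV, huV, hu1⟩
          obtain ⟨k, -, rfl⟩ := Finset.mem_image.1 hV
          rw [hconj] at huV
          have hu : u ∈ SR := Finset.mem_filter.2 ⟨Finset.mem_univ _,
            S.real_of_mem_torus (hreal_conj k (hreal hg)) (Subgroup.mem_centralizer_singleton_iff.1 huV) hu1⟩
          refine ⟨hu, (hcls hg hu).1 ?_⟩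
          rw [show T u = T (k * g * k⁻¹) from S.torus_eq (hreal_conj k (hreal hg)) huV hu1, ← hconj]
          exact Finset.mem_image.2 ⟨k, Finset.mem_univ _, rfl⟩
    refine ⟨m, Nat.card (T g), hm, hdvd, h3, hodd, hΩ, hocard, hcount, ?_, hallt⟩
    rw [← hcount, Finset.sum_congr rfl (g := fun _ => Nat.card (T g)) fun g' hg' =>
      hallt g' (Finset.mem_filter.1 hg').1 (Finset.mem_filter.1 hg').2, Finset.sum_const, smul_eq_mul]
  -- totals
  have hsum : 2 * ∑ o ∈ O, ∑ g ∈ SR.filter (fun g => cls g = o), Nat.card (T g) = Nat.card G * S.q := by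
    rw [Finset.sum_fiberwise_of_maps_to fun g hg => Finset.mem_image_of_mem cls hg]
    exact S.sum_inverting
  have hle : 2 * ∑ o ∈ O, (SR.filter fun g => cls g = o).card < Nat.card G := by
    refine lt_of_le_of_lt (Nat.mul_le_mul_left _ ?_) S.free_lt
    rw [← Finset.card_eq_sum_card_fiberwise fun g hg => Finset.mem_image_of_mem cls hg]
    refine Finset.card_le_card fun g hg => Finset.mem_filter.2 ⟨Finset.mem_univ _,
      S.real_ne_one (hreal hg), ?_⟩
    rw [zasFix, Finset.card_eq_zero, Finset.filter_eq_empty_iff]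
    exact fun c _ => (hreal hg).1 c
  choose! m t hm hdvd ht3 htodd htΩ hoG hocnt hosum hot using hdata
  have hG0 : 0 < Nat.card G := Nat.card_pos
  have hbig : ∀ o ∈ O, Nat.card G ≤ 5 * (SR.filter fun g => cls g = o).card ∧
      (m o = 2 → Nat.card G ≤ 3 * (SR.filter fun g => cls g = o).card) := by
    intro o ho
    rw [hocnt o ho, ← hoG o ho]
    rcases hm o ho with h | h
    · have h1 : t o * 2 ≤ 3 * (t o - 1) := by have := ht3 o ho; omega
      have h2 : o.card * (t o * 2) ≤ o.card * (3 * (t o - 1)) := Nat.mul_le_mul_left _ h1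
      rw [show o.card * (3 * (t o - 1)) = 3 * (o.card * (t o - 1)) by ring] at h2
      rw [h]
      exact ⟨by omega, fun _ => by omega⟩
    · have h4 := hdvd o ho
      rw [h] at h4 ⊢
      have h1 : t o * 4 ≤ 5 * (t o - 1) := by
        have := ht3 o ho
        obtain ⟨j, hj⟩ := h4
        omega
      have h2 : o.card * (t o * 4) ≤ o.card * (5 * (t o - 1)) := Nat.mul_le_mul_left _ h1
      rw [show o.card * (5 * (t o - 1)) = 5 * (o.card * (t o - 1)) by ring] at h2
      exact ⟨by omega, fun h' => absurd h' (by norm_num)⟩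
  have hq2 : S.h + 1 = S.q * S.q + 1 := by rw [hh, pow_two]
  have hΩq : Fintype.card Ω = S.q * S.q + 1 := S.card_omega.trans hq2
  have hq4 : 4 ≤ S.q := by
    obtain ⟨n', hn', hn2⟩ := S.exists_q_eq
    rw [hn']
    exact (show 4 = 2 ^ 2 by norm_num) ▸ Nat.pow_le_pow_right (by norm_num) hn2
  -- the number of classes
  rcases Nat.lt_or_ge O.card 2 with hlt | hge
  · exfalso
    rcases Nat.lt_or_ge O.card 1 with h0 | h1
    · rw [Finset.card_eq_zero.1 (Nat.lt_one_iff.1 h0), Finset.sum_empty, mul_zero] at hsum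
      exact absurd hsum.symm (Nat.mul_ne_zero hG0.ne' (by omega))
    · obtain ⟨o, hoeq⟩ := Finset.card_eq_one.1 (show O.card = 1 by omega)
      have ho : o ∈ O := by rw [hoeq]; exact Finset.mem_singleton_self o
      rw [hoeq, Finset.sum_singleton, hosum o ho, ← hoG o ho] at hsum
      have h2 : o.card * t o * (2 * (t o - 1)) = o.card * t o * (m o * S.q) := by
        linear_combination hsum
      have hop : 0 < o.card * t o := by
        rcases Nat.eq_zero_or_pos (o.card * t o) with h | h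
        · exfalso; have := hoG o ho; rw [← mul_assoc, h, zero_mul] at this; omega
        · exact h
      have h3 := Nat.eq_of_mul_eq_mul_left hop h2
      have hd := htΩ o ho
      rw [hΩq] at hd
      have h3' := ht3 o ho
      rcases hm o ho with h | h <;> rw [h] at h3
      · exact not_dvd_succ hq4 (show S.q + 1 ∣ S.q * S.q + 1 by
          rwa [show t o = S.q + 1 by omega] at hd)
      · exact not_dvd_two_mul_succ hq4 (show 2 * S.q + 1 ∣ S.q * S.q + 1 by
          rwa [show t o = 2 * S.q + 1 by omega] at hd)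
  obtain ⟨o₁, h1, o₂, h2, hne⟩ := Finset.one_lt_card.1 hge
  have hpair : O = {o₁, o₂} := by
    by_contra h
    obtain ⟨o₃, h3, h3'⟩ : ∃ o₃ ∈ O, o₃ ∉ ({o₁, o₂} : Finset (Finset (Subgroup G))) := by
      by_contra hh'
      push Not at hh'
      refine h (Finset.Subset.antisymm hh' ?_)
      intro o ho
      rcases Finset.mem_insert.1 ho with rfl | ho
      · exact h1
      · exact Finset.mem_singleton.1 ho ▸ h2
    simp only [Finset.mem_insert, Finset.mem_singleton, not_or] at h3'
    have hsub : ({o₁, o₂, o₃} : Finset (Finset (Subgroup G))) ⊆ O := by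
      intro o ho
      simp only [Finset.mem_insert, Finset.mem_singleton] at ho
      rcases ho with rfl | rfl | rfl <;> assumption
    have h4 := Finset.sum_le_sum_of_subset (f := fun o => (SR.filter fun g => cls g = o).card) hsub
    rw [Finset.sum_insert (by simp [hne, Ne.symm h3'.1]), Finset.sum_pair (Ne.symm h3'.2)] at h4
    have := (hbig o₁ h1).1; have := (hbig o₂ h2).1; have := (hbig o₃ h3).1
    omega
  rw [hpair, Finset.sum_pair hne] at hle hsum
  have hm1 : m o₁ = 4 := by
    rcases hm o₁ h1 with h | h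
    · have := (hbig o₁ h1).2 h; have := (hbig o₂ h2).1; omega
    · exact h
  have hm2 : m o₂ = 4 := by
    rcases hm o₂ h2 with h | h
    · have := (hbig o₂ h2).2 h; have := (hbig o₁ h1).1; omega
    · exact h
  rw [hosum o₁ h1, hosum o₂ h2] at hsum
  have e1 := hoG o₁ h1
  have e2 := hoG o₂ h2
  rw [hm1] at e1
  rw [hm2] at e2
  have hS : t o₁ + t o₂ = 2 * S.q + 2 := by
    have ha := ht3 o₁ h1
    have hb := ht3 o₂ h2
    have h6 : Nat.card G * ((t o₁ - 1) + (t o₂ - 1)) = Nat.card G * (2 * S.q) := by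
      calc Nat.card G * ((t o₁ - 1) + (t o₂ - 1))
          = o₁.card * (t o₁ * 4) * (t o₁ - 1) + o₂.card * (t o₂ * 4) * (t o₂ - 1) := by
            rw [e1, e2]; ring
        _ = 2 * (2 * (o₁.card * (t o₁ - 1) * t o₁ + o₂.card * (t o₂ - 1) * t o₂)) := by ring
        _ = Nat.card G * (2 * S.q) := by rw [hsum]; ring
    have := Nat.eq_of_mul_eq_mul_left hG0 h6
    omega
  have hcop : Nat.Coprime (t o₁) (t o₂) := by
    obtain ⟨g₁, hg₁, hc1⟩ := Finset.mem_image.1 h1
    obtain ⟨g₂, hg₂, hc2⟩ := Finset.mem_image.1 h2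
    rw [← hot o₁ h1 g₁ hg₁ hc1, ← hot o₂ h2 g₂ hg₂ hc2]
    refine S.torus_coprime (hreal hg₁) (hreal hg₂) fun k hk => hne ?_
    rw [← hc1, ← hc2, ((hcls hg₁ hg₂).1 (Finset.mem_image.2 ⟨k, Finset.mem_univ _, hk⟩))]
  obtain ⟨k, hk⟩ := Nat.Coprime.mul_dvd_of_dvd_of_dvd hcop (htΩ o₁ h1) (htΩ o₂ h2)
  rw [hΩq] at hk
  have hk' : (S.q : ℤ) * S.q + 1 = (t o₁ : ℤ) * t o₂ * k := by exact_mod_cast hk
  have hS' : (t o₁ : ℤ) + t o₂ = 2 * S.q + 2 := by exact_mod_cast hS
  have hk1 : 1 ≤ k := by
    rcases Nat.eq_zero_or_pos k with rfl | h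
    · simp at hk
    · exact h
  have heq : ((t o₁ : ℤ) + t o₂ - 2) ^ 2 + 4 = 4 * (k : ℤ) * (t o₁ : ℤ) * (t o₂ : ℤ) := by
    rw [hS']; linear_combination 4 * hk'
  have hkone := vieta_one (t o₁ + t o₂) (t o₁) (t o₂) k (by push_cast; rfl)
    (by have := ht3 o₁ h1; omega) (by have := ht3 o₂ h2; omega) (by omega) heq
  refine odd_exponent (x := (t o₁ : ℤ) - t o₂) ?_
  rw [hkone] at hk'
  have hqn : (S.q : ℤ) = 2 ^ n := by exact_mod_cast hn
  rw [← hqn]
  linear_combination ((t o₁ : ℤ) + t o₂ + 2 * S.q + 2) * hS' + 4 * hk'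

end ZSetup

end Cfsg.Lib.ZasSuzuki
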