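import Mathlib.GroupTheory.FixedPointFree
import Cfsg.Agent.Lib.Char.ZassenhausReduce
import Cfsg.Agent.Lib.TwoGroup.SuzukiStructure
import Cfsg.Agent.Lib.Perm.ZasAbelian.Main
import Cfsg.Agent.S0345

/-!
# Simple Zassenhaus groups with a nonabelian two-group kernel

The kernel is a Suzuki two-group on whose involutions the two-point stabilizer acts regularly.
-/

set_option autoImplicit false
set_option linter.unusedSectionVars false
set_option linter.style.haveILetI false

namespace Cfsg.Lib.ZasSuzuki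

open Cfsg Cfsg.Lib.Char
open scoped commutatorElement

universe u v

/-- A Zassenhaus group with a nonabelian two-group as the kernel of a point stabilizer. -/
structure ZSetup (G : Type u) (Ω : Type v) [Group G] [MulAction G Ω] [Fintype Ω] where
  /-- the first point -/
  a : Ω
  /-- the second point -/
  b : Ω
  /-- the kernel -/
  U : Subgroup G
  hab : a ≠ b
  hZ : IsZassenhausGroup G Ω
  hUa : U ≤ MulAction.stabilizer G a
  hUn : ∀ h ∈ MulAction.stabilizer G a, ∀ u ∈ U, h * u * h⁻¹ ∈ U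
  hcard : Nat.card U + 1 = Fintype.card Ω
  hfix : ∀ u ∈ U, u ≠ 1 → ∀ c : Ω, u • c = c → c = a
  hU2 : IsPGroup 2 U
  hna : ∃ u ∈ U, ∃ v ∈ U, u * v ≠ v * u

variable {G : Type u} {Ω : Type v} [Group G] [Finite G] [MulAction G Ω] [Fintype Ω]

namespace ZSetup

variable (S : ZSetup G Ω)

include S

/-- The two-point stabilizer. -/
abbrev D : Subgroup G := MulAction.stabilizer G S.a ⊓ MulAction.stabilizer G S.b

/-- The order of the kernel. -/
noncomputable abbrev h : ℕ := Nat.card S.U

/-- One more than the order of the two-point stabilizer. -/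
noncomputable abbrev q : ℕ := Nat.card S.D + 1

omit [Finite G] in
theorem card_omega : Fintype.card Ω = S.h + 1 := S.hcard.symm

theorem centralizer_le {k : G} (hk : k ∈ S.U) (hk1 : k ≠ 1) {x : G} (hx : x * k = k * x) : x ∈ S.U :=
  zas_centralizer_le S.hZ S.hab S.U S.hUa S.hcard S.hfix hk hk1
    (Subgroup.mem_centralizer_singleton_iff.2 hx)

omit [Finite G] in
theorem meet_D {x : G} (hx : x ∈ S.U) (hxD : x ∈ S.D) : x = 1 := by
  by_contra h
  exact S.hab (S.hfix x hx h S.b hxD.2).symm

/-- Conjugation by the two-point stabilizer on the kernel. -/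
def conjU : S.D →* MulAut S.U where
  toFun d :=
    { toFun := fun u => ⟨d * u * (d : G)⁻¹, S.hUn d d.2.1 u u.2⟩
      invFun := fun u => ⟨(d : G)⁻¹ * u * d, by
        have := S.hUn (d : G)⁻¹ (inv_mem d.2.1) u u.2
        rwa [inv_inv] at this⟩
      left_inv := fun u => Subtype.ext (by group)
      right_inv := fun u => Subtype.ext (by group)
      map_mul' := fun u v => Subtype.ext (by simp [mul_assoc]) }
  map_one' := MulEquiv.ext fun u => Subtype.ext (by simp)
  map_mul' d e := MulEquiv.ext fun u => Subtype.ext (by simp [mul_assoc])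

theorem conjU_apply (d : S.D) (u : S.U) : ((S.conjU d u : S.U) : G) = d * u * (d : G)⁻¹ := rfl

/-- The two-point stabilizer acts freely on the kernel. -/
theorem free {d : S.D} {u : S.U} (hu : u ≠ 1) (h : S.conjU d u = u) : d = 1 := by
  refine Subtype.ext (S.meet_D (S.centralizer_le u.2 (fun e => hu (Subtype.ext e)) ?_) d.2)
  have h1 : (d : G) * u * (d : G)⁻¹ = u := congrArg Subtype.val h
  calc (d : G) * u = (d : G) * u * (d : G)⁻¹ * d := by group
    _ = u * d := by rw [h1]

theorem exists_h_eq : ∃ k : ℕ, S.h = 2 ^ k ∧ 1 ≤ k := by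
  haveI : Fact (Nat.Prime 2) := ⟨Nat.prime_two⟩
  obtain ⟨k, hk⟩ := IsPGroup.iff_card.1 S.hU2
  refine ⟨k, hk, Nat.one_le_iff_ne_zero.2 fun h0 => ?_⟩
  rw [h0, pow_zero] at hk
  obtain ⟨u, hu, v, hv, huv⟩ := S.hna
  haveI := (Nat.card_eq_one_iff_unique.1 hk).1
  have h1 : (⟨u, hu⟩ : S.U) = 1 := Subsingleton.elim _ _
  refine huv ?_
  rw [show u = 1 from congrArg Subtype.val h1, one_mul, mul_one]

theorem even_h : Even S.h := by
  obtain ⟨k, hk, h1⟩ := S.exists_h_eq
  exact ⟨2 ^ (k - 1), by rw [hk, ← two_mul, ← pow_succ', Nat.sub_add_cancel h1]⟩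

theorem odd_D : Odd (Nat.card S.D) := by
  by_contra hev
  haveI : Fact (Nat.Prime 2) := ⟨Nat.prime_two⟩
  obtain ⟨d, hd⟩ := exists_prime_orderOf_dvd_card' 2 (even_iff_two_dvd.1 (Nat.not_odd_iff_even.1 hev))
  have hd1 : d ≠ 1 := fun e => by rw [e, orderOf_one] at hd; omega
  have hdd : d * d = 1 := by rw [← pow_two, ← hd, pow_orderOf_eq_one]
  have hfp : MonoidHom.FixedPointFree (S.conjU d) := fun u hu => by
    by_contra hu1
    exact hd1 (S.free hu1 hu)
  have hodd := MonoidHom.FixedPointFree.odd_card_of_involutive hfp fun u => by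
    rw [← MulAut.mul_apply, ← map_mul, hdd, map_one, MulAut.one_apply]
  exact Nat.not_odd_iff_even.2 S.even_h hodd

theorem three_le_D : 3 ≤ Nat.card S.D := zas_three_le_D S.hZ S.hab S.odd_D

variable [IsSimpleGroup G]

/-- Every involution has exactly one fixed point. -/
theorem invol_one_fix {t : G} (ht : orderOf t = 2) : zasFix Ω t = 1 := by
  classical
  haveI := Fintype.ofFinite G
  exact ((zas_invol_count S.hZ S.hab S.odd_D S.card_omega rfl).1 S.even_h).1 t ht

theorem exists_fix {t : G} (ht : orderOf t = 2) : ∃ c : Ω, t • c = c ∧ ∀ d, t • d = d → d = c := by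
  classical
  have h := S.invol_one_fix ht
  rw [zasFix, Finset.card_eq_one] at h
  obtain ⟨c, hc⟩ := h
  simp only [Finset.ext_iff, Finset.mem_filter, Finset.mem_univ, true_and, Finset.mem_singleton] at hc
  exact ⟨c, (hc c).2 rfl, fun d hd => (hc d).1 hd⟩

theorem fix_unique {t : G} (ht : orderOf t = 2) {c d : Ω} (hc : t • c = c) (hd : t • d = d) : c = d :=
  zas_invol_fix S.hZ S.hab S.odd_D ht hc hd

theorem invol_mem_U {t : G} (ht : orderOf t = 2) : t ∈ S.U ↔ t • S.a = S.a := by
  refine ⟨fun h => S.hUa h, fun h => zas_mem_kernel S.hZ S.a S.U S.hUa S.hcard S.hfix h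
    fun c hc => S.fix_unique ht hc h⟩

open Classical in
/-- The involutions of the group and those of the kernel. -/
theorem invol_card [Fintype G] :
    (Finset.univ.filter fun t : G => orderOf t = 2).card = Nat.card S.D * (S.h + 1) ∧
      (Finset.univ.filter fun t : G => orderOf t = 2 ∧ t ∈ S.U).card = Nat.card S.D := by
  obtain ⟨hone, hcard⟩ := (zas_invol_count S.hZ S.hab S.odd_D S.card_omega rfl).1 S.even_h
  refine ⟨hcard, ?_⟩
  have hconst : ∀ d : Ω, (Finset.univ.filter fun t : G => orderOf t = 2 ∧ t • d = d).card =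
      (Finset.univ.filter fun t : G => orderOf t = 2 ∧ t • S.a = S.a).card := by
    intro d
    by_cases hd : d = S.a
    · rw [hd]
    obtain ⟨k, hk, -⟩ := MulAction.is_two_pretransitive_iff.1 S.hZ.2.1 hd (Ne.symm hd)
    refine Finset.card_equiv (MulAut.conj k).toEquiv fun t => ?_
    have hki : k⁻¹ • S.a = d := by rw [inv_smul_eq_iff, hk]
    have he' : ((MulAut.conj k).toEquiv t : G) = k * t * k⁻¹ := rfl
    simp only [Finset.mem_filter, Finset.mem_univ, true_and, he']
    rw [← MulAut.conj_apply k t, MulEquiv.orderOf_eq, MulAut.conj_apply, mul_smul, mul_smul, hki]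
    constructor
    · rintro ⟨h1, h2⟩; exact ⟨h1, by rw [h2, hk]⟩
    · rintro ⟨h1, h2⟩; exact ⟨h1, MulAction.injective k (h2.trans hk.symm)⟩
  have hsum : ∑ d : Ω, (Finset.univ.filter fun t : G => orderOf t = 2 ∧ t • d = d).card =
      (Finset.univ.filter fun t : G => orderOf t = 2).card := by
    simp only [Finset.card_filter]
    rw [Finset.sum_comm]
    refine Finset.sum_congr rfl fun t _ => ?_
    by_cases ht : orderOf t = 2
    · simp only [ht, true_and, if_true]
      rw [← Finset.card_filter]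
      exact hone t ht
    · simp [ht]
  rw [Finset.sum_congr rfl fun d _ => hconst d, Finset.sum_const, Finset.card_univ, smul_eq_mul,
    hcard, S.card_omega, mul_comm (Nat.card _) (S.h + 1)] at hsum
  rw [← Nat.eq_of_mul_eq_mul_left (Nat.succ_pos _) hsum]
  exact congrArg Finset.card (Finset.filter_congr fun t _ =>
    ⟨fun ⟨h1, h2⟩ => ⟨h1, (S.invol_mem_U h1).1 h2⟩, fun ⟨h1, h2⟩ => ⟨h1, (S.invol_mem_U h1).2 h2⟩⟩)

/-- The kernel is a Suzuki two-group. -/
theorem isSuzukiTwoGroup : Cfsg.IsSuzukiTwoGroup S.U := by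
  classical
  haveI := Fintype.ofFinite G
  have hcardI : (Finset.univ.filter fun u : S.U => u ≠ 1 ∧ u * u = 1).card = Fintype.card S.D := by
    rw [← Nat.card_eq_fintype_card, ← S.invol_card.2]
    refine Finset.card_bij (fun u _ => (u : G)) (fun u hu => ?_)
      (fun u _ v _ e => Subtype.ext e) (fun t ht => ?_)
    · obtain ⟨-, h1, h2⟩ := Finset.mem_filter.1 hu
      refine Finset.mem_filter.2 ⟨Finset.mem_univ _, orderOf_eq_prime ?_ (fun e => h1 (Subtype.ext e)), u.2⟩
      rw [pow_two]; exact congrArg Subtype.val h2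
    · obtain ⟨-, h1, h2⟩ := Finset.mem_filter.1 ht
      refine ⟨⟨t, h2⟩, Finset.mem_filter.2 ⟨Finset.mem_univ _, fun e => ?_, Subtype.ext ?_⟩, rfl⟩
      · rw [show t = 1 from congrArg Subtype.val e, orderOf_one] at h1; omega
      · show t * t = 1
        rw [← pow_two, ← h1, pow_orderOf_eq_one]
  -- regularity
  have hreg : ∀ x y : S.U, x ≠ 1 → x * x = 1 → y ≠ 1 → y * y = 1 → ∃! d : S.D, S.conjU d x = y := by
    intro x y hx hx2 hy hy2
    have hinj : ∀ d e : S.D, S.conjU d x = S.conjU e x → d = e := by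
      intro d e h
      refine (inv_mul_eq_one.1 (S.free (d := e⁻¹ * d) hx ?_)).symm
      rw [map_mul, MulAut.mul_apply, h, map_inv, MulAut.inv_apply_self]
    let f : S.D → {u : S.U // u ≠ 1 ∧ u * u = 1} := fun d =>
      ⟨S.conjU d x, fun e => hx ((S.conjU d).injective (e.trans (map_one _).symm)),
        by rw [← map_mul, hx2, map_one]⟩
    have hb : Function.Bijective f := (Fintype.bijective_iff_injective_and_card f).2
      ⟨fun d e h => hinj d e (congrArg Subtype.val h), hcardI.symm.trans (Fintype.card_subtype _).symm⟩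
    obtain ⟨d, hd⟩ := hb.2 ⟨y, hy, hy2⟩
    exact ⟨d, congrArg Subtype.val hd, fun e he => hinj e d (he.trans (congrArg Subtype.val hd).symm)⟩
  have htwo : 1 < (Finset.univ.filter fun u : S.U => u ≠ 1 ∧ u * u = 1).card := by
    rw [hcardI, ← Nat.card_eq_fintype_card]; have := S.three_le_D; omega
  obtain ⟨x, hx, y, hy, hxy⟩ := Finset.one_lt_card.1 htwo
  obtain ⟨-, hx1, hx2⟩ := Finset.mem_filter.1 hx
  obtain ⟨-, hy1, hy2⟩ := Finset.mem_filter.1 hy
  obtain ⟨u, hu, v, hv, huv⟩ := S.hna
  haveI : IsCyclic S.D := (Cfsg.Agent.S0345.result S.hZ S.hab).1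
  refine ⟨inferInstance, S.hU2, ⟨⟨u, hu⟩, ⟨v, hv⟩, fun e => huv (congrArg Subtype.val e)⟩,
    ⟨x, y, hxy, hx1, hx2, hy1, hy2⟩, S.conjU.range,
    isCyclic_of_surjective S.conjU.rangeRestrict S.conjU.rangeRestrict_surjective, ?_⟩
  intro x y hx hx2 hy hy2
  obtain ⟨d, hd, huniq⟩ := hreg x y hx hx2 hy hy2
  refine ⟨⟨S.conjU d, ⟨d, rfl⟩⟩, hd, ?_⟩
  rintro ⟨k, e, rfl⟩ he
  exact Subtype.ext (congrArg S.conjU (huniq e he))

/-- The centre of the kernel consists of the elements of order at most two. -/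
theorem center_iff (u : S.U) : u ∈ Subgroup.center S.U ↔ u * u = 1 :=
  (Cfsg.Lib.Suzuki2.structure_of_suzuki S.isSuzukiTwoGroup).1 u

/-- Squares are central. -/
theorem sq_center (u : S.U) : u * u ∈ Subgroup.center S.U :=
  (Cfsg.Lib.Suzuki2.structure_of_suzuki S.isSuzukiTwoGroup).2.1 u

/-- The kernel has class two. -/
theorem comm_center (u v : S.U) : ⁅u, v⁆ ∈ Subgroup.center S.U :=
  (Cfsg.Lib.Suzuki2.structure_of_suzuki S.isSuzukiTwoGroup).2.2.1 u v

theorem card_center : Nat.card (Subgroup.center S.U) = S.q := by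
  classical
  haveI := Fintype.ofFinite G
  rw [Nat.card_eq_fintype_card, Fintype.card_subtype]
  have hsplit : (Finset.univ.filter fun u : S.U => u ∈ Subgroup.center S.U) =
      insert 1 (Finset.univ.filter fun u : S.U => u ≠ 1 ∧ u * u = 1) := by
    ext u
    simp only [Finset.mem_filter, Finset.mem_univ, true_and, Finset.mem_insert, S.center_iff]
    by_cases h : u = 1 <;> simp [h]
  rw [hsplit, Finset.card_insert_of_notMem (by simp)]
  congr 1
  rw [← S.invol_card.2]
  refine Finset.card_bij (fun u _ => (u : G)) (fun u hu => ?_)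
    (fun u _ v _ e => Subtype.ext e) (fun t ht => ?_)
  · obtain ⟨-, h1, h2⟩ := Finset.mem_filter.1 hu
    refine Finset.mem_filter.2 ⟨Finset.mem_univ _, orderOf_eq_prime ?_ (fun e => h1 (Subtype.ext e)), u.2⟩
    rw [pow_two]; exact congrArg Subtype.val h2
  · obtain ⟨-, h1, h2⟩ := Finset.mem_filter.1 ht
    refine ⟨⟨t, h2⟩, Finset.mem_filter.2 ⟨Finset.mem_univ _, fun e => ?_, Subtype.ext ?_⟩, rfl⟩
    · rw [show t = 1 from congrArg Subtype.val e, orderOf_one] at h1; omega
    · show t * t = 1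
      rw [← pow_two, ← h1, pow_orderOf_eq_one]

theorem exists_q_eq : ∃ n : ℕ, S.q = 2 ^ n ∧ 2 ≤ n := by
  haveI : Fact (Nat.Prime 2) := ⟨Nat.prime_two⟩
  obtain ⟨n, hn⟩ := IsPGroup.iff_card.1 (S.hU2.to_subgroup (Subgroup.center S.U))
  rw [S.card_center] at hn
  refine ⟨n, hn, ?_⟩
  by_contra h
  have := Nat.pow_le_pow_right (show 1 ≤ 2 by norm_num) (show n ≤ 1 by omega)
  have h3 := S.three_le_D
  rw [← hn] at this
  simp only [q, pow_one] at this
  omega

/-- The order of the kernel. -/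
theorem h_cases : S.h = S.q ^ 2 ∨ S.h = S.q ^ 3 := by
  have := (Cfsg.Lib.Suzuki2.structure_of_suzuki S.isSuzukiTwoGroup).2.2.2
  rwa [S.card_center] at this

theorem card_G : Nat.card G = (S.h + 1) * (S.h * (S.q - 1)) := by
  rw [(zas_card_group S.hZ S.hab).2, S.card_omega]
  simp [q]

end ZSetup

end Cfsg.Lib.ZasSuzuki
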