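import Cfsg.Agent.Lib.Perm.ZasSuzuki.Setup

/-!
# The strongly real elements without fixed points

Their centralizers are abelian, semiregular, inverted by involutions, and counting pairs of
involutions gives the sum of their orders.
-/

set_option autoImplicit false
set_option linter.unusedSectionVars false
set_option linter.style.haveILetI false

namespace Cfsg.Lib.ZasSuzuki

open Cfsg Cfsg.Lib.Char

universe u v

variable {G : Type u} {Ω : Type v} [Group G] [Finite G] [MulAction G Ω] [Fintype Ω] [IsSimpleGroup G]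

/-- No fixed points and inverted by an involution. -/
def IsRealFree (Ω : Type v) [MulAction G Ω] (x : G) : Prop :=
  (∀ c : Ω, x • c ≠ c) ∧ ∃ w : G, orderOf w = 2 ∧ w * x * w⁻¹ = x⁻¹

namespace ZSetup

variable (S : ZSetup G Ω)

include S

theorem exists_move (c : Ω) : ∃ g : G, g • c = S.a := by
  by_cases h : c = S.a
  · exact ⟨1, by rw [one_smul, h]⟩
  · obtain ⟨g, hg, -⟩ := MulAction.is_two_pretransitive_iff.1 S.hZ.2.1 h (Ne.symm h)
    exact ⟨g, hg⟩

/-- Conjugating the centralizer of an involution into the kernel. -/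
theorem invol_centralizer {w x : G} (hw : orderOf w = 2) (hx : x * w = w * x) :
    ∃ g : G, g * w * g⁻¹ ∈ S.U ∧ g * x * g⁻¹ ∈ S.U := by
  obtain ⟨c, hc, -⟩ := S.exists_fix hw
  obtain ⟨g, hg⟩ := S.exists_move c
  have hw' : orderOf (g * w * g⁻¹) = 2 := by rw [← MulAut.conj_apply, MulEquiv.orderOf_eq, hw]
  have hwU : g * w * g⁻¹ ∈ S.U := (S.invol_mem_U hw').2 (by
    rw [mul_smul, mul_smul, ← hg, inv_smul_smul, hc])
  refine ⟨g, hwU, S.centralizer_le hwU (fun e => by rw [e, orderOf_one] at hw'; omega) ?_⟩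
  calc g * x * g⁻¹ * (g * w * g⁻¹) = g * (x * w) * g⁻¹ := by group
    _ = g * w * g⁻¹ * (g * x * g⁻¹) := by rw [hx]; group

theorem invol_centralizer_pow {w x : G} (hw : orderOf w = 2) (hx : x * w = w * x) :
    ∃ k : ℕ, x ^ 2 ^ k = 1 := by
  obtain ⟨g, -, hg⟩ := S.invol_centralizer hw hx
  obtain ⟨k, hk⟩ := S.hU2 ⟨_, hg⟩
  refine ⟨k, ?_⟩
  have h1 : (g * x * g⁻¹) ^ 2 ^ k = 1 := congrArg Subtype.val hk
  rw [conj_pow, mul_inv_eq_one, mul_eq_left] at h1
  exact h1

theorem invol_centralizer_fix {w x : G} (hw : orderOf w = 2) (hx : x * w = w * x) {c : Ω}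
    (hc : w • c = c) : x • c = c := by
  refine S.fix_unique hw ?_ hc
  rw [← mul_smul, ← hx, mul_smul, hc]

theorem free_odd {x : G} (hx : ∀ c : Ω, x • c ≠ c) : Odd (orderOf x) := by
  by_contra hev
  rw [Nat.not_odd_iff_even] at hev
  have hv : orderOf (x ^ (orderOf x / 2)) = 2 := by
    rw [orderOf_pow_orderOf_div (orderOf_pos x).ne' hev.two_dvd]
  obtain ⟨c, hc, -⟩ := S.exists_fix hv
  exact hx c (S.invol_centralizer_fix hv (Commute.self_pow x _).eq hc)

theorem odd_pow_two_eq_one {x : G} (hx : Odd (orderOf x)) {k : ℕ} (hk : x ^ 2 ^ k = 1) : x = 1 := by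
  have h1 := orderOf_dvd_of_pow_eq_one hk
  obtain ⟨j, -, hj⟩ := (Nat.dvd_prime_pow Nat.prime_two).1 h1
  rcases Nat.eq_zero_or_pos j with rfl | hj0
  · exact orderOf_eq_one_iff.1 (by simpa using hj)
  · exfalso
    rw [hj] at hx
    exact Nat.not_odd_iff_even.2 (Nat.even_pow.2 ⟨even_two, hj0.ne'⟩) hx

theorem free_comm {x y : G} (hx : ∀ c : Ω, x • c ≠ c) (hy : y * x = x * y) (hy1 : y ≠ 1) :
    ∀ c : Ω, y • c ≠ c := by
  intro c hc
  have hcom : ∀ d : Ω, y • d = d → y • (x • d) = x • d := fun d hd => by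
    rw [← mul_smul, hy, mul_smul, hd]
  by_cases h2 : x • x • c = c
  · obtain ⟨j, hj⟩ := S.free_odd hx
    refine hx c ?_
    have hx2 : x ^ 2 ∈ MulAction.stabilizer G c := by
      rw [MulAction.mem_stabilizer_iff, pow_two, mul_smul, h2]
    have : (x ^ 2) ^ (j + 1) = x := by
      rw [← pow_mul, show 2 * (j + 1) = orderOf x + 1 by omega, pow_succ, pow_orderOf_eq_one, one_mul]
    exact MulAction.mem_stabilizer_iff.1 (this ▸ pow_mem hx2 (j + 1))
  · exact hy1 (S.hZ.2.2.1 y c (x • c) (x • x • c) (Ne.symm (hx c)) (Ne.symm (hx (x • c))) (Ne.symm h2)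
      hc (hcom c hc) (hcom _ (hcom c hc)))

variable {x : G}

theorem real_ne_one (hx : IsRealFree Ω x) : x ≠ 1 := fun h => hx.1 S.a (by rw [h, one_smul])

theorem torus_invert (hx : IsRealFree Ω x) {w : G} (hw : orderOf w = 2) (hwx : w * x * w⁻¹ = x⁻¹) :
    ∀ y, y * x = x * y → w * y * w⁻¹ = y⁻¹ := by
  have hww : w * w = 1 := by rw [← pow_two, ← hw, pow_orderOf_eq_one]
  have hwi : w⁻¹ = w := inv_eq_of_mul_eq_one_right hww
  have hclosed : ∀ y, y ∈ Subgroup.centralizer ({x} : Set G) →
      w * y * w⁻¹ ∈ Subgroup.centralizer ({x} : Set G) := by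
    intro y hy
    rw [Subgroup.mem_centralizer_singleton_iff] at hy ⊢
    have hyi : y * x⁻¹ = x⁻¹ * y := (Commute.inv_right (show Commute y x from hy)).eq
    have hwx' : x = w * x⁻¹ * w⁻¹ := by
      rw [show w * x⁻¹ * w⁻¹ = (w * x * w⁻¹)⁻¹ by group, hwx, inv_inv]
    calc w * y * w⁻¹ * x = w * y * w⁻¹ * (w * x⁻¹ * w⁻¹) := by rw [← hwx']
      _ = w * (y * x⁻¹) * w⁻¹ := by group
      _ = w * (x⁻¹ * y) * w⁻¹ := by rw [hyi]
      _ = (w * x⁻¹ * w⁻¹) * (w * y * w⁻¹) := by group
      _ = x * (w * y * w⁻¹) := by rw [← hwx']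
  let T := Subgroup.centralizer ({x} : Set G)
  let φ : T →* T :=
    { toFun := fun y => ⟨w * y * w⁻¹, hclosed y y.2⟩
      map_one' := Subtype.ext (by simp)
      map_mul' := fun y z => Subtype.ext (by simp [mul_assoc]) }
  have hinv : Function.Involutive φ := fun y => Subtype.ext (by
    show w * (w * y * w⁻¹) * w⁻¹ = y
    calc w * (w * y * w⁻¹) * w⁻¹ = (w * w) * y * (w * w)⁻¹ := by group
      _ = y := by rw [hww]; group)
  have hfp : MonoidHom.FixedPointFree φ := by
    intro y hy
    have h1 : w * y * w⁻¹ = y := congrArg Subtype.val hy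
    have h2 : (y : G) * w = w * y := by
      calc (y : G) * w = w * y * w⁻¹ * w := by rw [h1]
        _ = w * y := by group
    by_contra hy1
    obtain ⟨k, hk⟩ := S.invol_centralizer_pow hw h2
    have hy1' : (y : G) ≠ 1 := fun e => hy1 (Subtype.ext e)
    exact hy1' (S.odd_pow_two_eq_one (S.free_odd (S.free_comm hx.1
      (Subgroup.mem_centralizer_singleton_iff.1 y.2) hy1')) hk)
  intro y hy
  have := congrArg Subtype.val (congrFun (MonoidHom.FixedPointFree.coe_eq_inv_of_involutive hfp hinv)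
    ⟨y, Subgroup.mem_centralizer_singleton_iff.2 hy⟩)
  exact this

theorem torus_comm (hx : IsRealFree Ω x) {y z : G} (hy : y * x = x * y) (hz : z * x = x * z) :
    y * z = z * y := by
  obtain ⟨w, hw, hwx⟩ := hx.2
  have hyz : y * z * x = x * (y * z) := by rw [mul_assoc, hz, ← mul_assoc, hy, mul_assoc]
  have h1 := S.torus_invert hx hw hwx _ hyz
  rw [show w * (y * z) * w⁻¹ = w * y * w⁻¹ * (w * z * w⁻¹) by group,
    S.torus_invert hx hw hwx y hy, S.torus_invert hx hw hwx z hz, mul_inv_rev] at h1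
  calc y * z = (z⁻¹ * y⁻¹)⁻¹ := by group
    _ = z * y := by rw [← h1]; group

theorem real_of_mem_torus (hx : IsRealFree Ω x) {y : G} (hy : y * x = x * y) (hy1 : y ≠ 1) :
    IsRealFree Ω y := by
  obtain ⟨w, hw, hwx⟩ := hx.2
  exact ⟨S.free_comm hx.1 hy hy1, w, hw, S.torus_invert hx hw hwx y hy⟩

/-- The centralizer of a nontrivial element of a torus is the torus. -/
theorem torus_eq (hx : IsRealFree Ω x) {y : G} (hy : y ∈ Subgroup.centralizer ({x} : Set G))
    (hy1 : y ≠ 1) : Subgroup.centralizer ({y} : Set G) = Subgroup.centralizer ({x} : Set G) := by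
  rw [Subgroup.mem_centralizer_singleton_iff] at hy
  ext z
  rw [Subgroup.mem_centralizer_singleton_iff, Subgroup.mem_centralizer_singleton_iff]
  exact ⟨fun hz => S.torus_comm (S.real_of_mem_torus hx hy hy1) hz hy.symm,
    fun hz => S.torus_comm hx hz hy⟩

open Classical in
/-- The involutions inverting an element of a torus. -/
theorem card_inverting [Fintype G] (hx : IsRealFree Ω x) :
    (Finset.univ.filter fun w : G => orderOf w = 2 ∧ w * x * w⁻¹ = x⁻¹).card =
      Nat.card (Subgroup.centralizer ({x} : Set G)) := by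
  obtain ⟨w, hw, hwx⟩ := hx.2
  have hww : w * w = 1 := by rw [← pow_two, ← hw, pow_orderOf_eq_one]
  rw [Nat.card_eq_fintype_card, Fintype.card_subtype]
  refine (Finset.card_equiv (Equiv.mulLeft w) fun y => ?_).symm
  simp only [Finset.mem_filter, Finset.mem_univ, true_and, Equiv.coe_mulLeft,
    Subgroup.mem_centralizer_singleton_iff]
  constructor
  · intro hy
    have h1 := S.torus_invert hx hw hwx y hy
    refine ⟨orderOf_eq_prime ?_ fun e => ?_, ?_⟩
    · rw [pow_two]
      calc w * y * (w * y) = (w * y * w⁻¹) * (w * w) * y := by group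
        _ = 1 := by rw [h1, hww, mul_one, inv_mul_cancel]
    · have hyw : y = w⁻¹ := eq_inv_of_mul_eq_one_right e
      rw [inv_eq_of_mul_eq_one_right hww] at hyw
      subst hyw
      obtain ⟨c, hc, -⟩ := S.exists_fix hw
      exact S.free_comm hx.1 hy (fun h => by rw [h, orderOf_one] at hw; omega) c hc
    · calc w * y * x * (w * y)⁻¹ = w * (y * x) * y⁻¹ * w⁻¹ := by group
        _ = w * (x * y) * y⁻¹ * w⁻¹ := by rw [hy]
        _ = x⁻¹ := by rw [← hwx]; group
  · rintro ⟨-, h⟩
    have h2 : w * (y * x * y⁻¹) * w⁻¹ = w * x * w⁻¹ := by rw [hwx, ← h]; group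
    calc y * x = y * x * y⁻¹ * y := by group
      _ = x * y := by rw [mul_left_cancel (mul_right_cancel h2)]

open Classical in
/-- The number of elements without fixed points is less than half the order of the group. -/
theorem free_lt [Fintype G] :
    2 * (Finset.univ.filter fun g : G => g ≠ 1 ∧ zasFix Ω g = 0).card < Nat.card G := by
  obtain ⟨h1, h2, h3⟩ := zas_counts (e := Nat.card S.D) S.hZ S.hab S.card_omega rfl
  rw [S.card_G] at h3 ⊢
  have hh : 2 ≤ S.h := by
    obtain ⟨k, hk, hk1⟩ := S.exists_h_eq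
    have := Nat.pow_le_pow_right (show 1 ≤ 2 by norm_num) hk1
    omega
  simp only [q, Nat.add_sub_cancel] at h3 ⊢
  have hs : S.h * S.h ≥ 2 * S.h := Nat.mul_le_mul_right _ hh
  have e1 : (S.h + 1) * S.h = S.h * S.h + S.h := by ring
  have e2 : (S.h + 1) * (S.h * Nat.card S.D) = (S.h + 1) * S.h * Nat.card S.D := by ring
  omega

open Classical in
/-- The pairs of involutions give the weighted number of strongly real free elements. -/
theorem sum_inverting [Fintype G] :
    2 * ∑ g ∈ Finset.univ.filter (fun g : G => IsRealFree Ω g),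
      Nat.card (Subgroup.centralizer ({g} : Set G)) = Nat.card G * S.q := by
  set I := Finset.univ.filter fun t : G => orderOf t = 2 with hI
  obtain ⟨hIc, hIU⟩ := S.invol_card
  -- the involutions fixing a given point
  have hat : ∀ c : Ω, (I.filter fun t => t • c = c).card = Nat.card S.D := by
    intro c
    obtain ⟨g, hg⟩ := S.exists_move c
    rw [← hIU]
    refine Finset.card_equiv (MulAut.conj g).toEquiv fun t => ?_
    have he' : ((MulAut.conj g).toEquiv t : G) = g * t * g⁻¹ := rfl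
    have ho : orderOf (g * t * g⁻¹) = orderOf t := by rw [← MulAut.conj_apply, MulEquiv.orderOf_eq]
    simp only [hI, Finset.mem_filter, Finset.mem_univ, true_and, he', ho]
    refine and_congr_right fun ht => ?_
    rw [S.invol_mem_U (ho.trans ht), mul_smul, mul_smul, ← eq_inv_smul_iff (g := g),
      show g⁻¹ • S.a = c from inv_smul_eq_iff.2 hg.symm]
  set P := (I ×ˢ I).filter fun p => ∀ c : Ω, ¬ (p.1 • c = c ∧ p.2 • c = c) with hP
  have hPc : P.card + I.card * Nat.card S.D = I.card * I.card := by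
    rw [← Finset.card_product, ← Finset.card_filter_add_card_filter_not
      (fun p : G × G => ∀ c : Ω, ¬ (p.1 • c = c ∧ p.2 • c = c)) (s := I ×ˢ I), ← hP]
    congr 1
    conv_rhs => rw [Finset.card_filter, Finset.sum_product]
    rw [Finset.sum_congr rfl (g := fun _ => Nat.card S.D) fun t ht => ?_, Finset.sum_const, smul_eq_mul]
    obtain ⟨c, hc, huniq⟩ := S.exists_fix (Finset.mem_filter.1 ht).2
    rw [← Finset.card_filter, ← hat c]
    refine congrArg Finset.card (Finset.filter_congr fun s _ => ?_)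
    simp only [not_forall, not_not]
    exact ⟨fun ⟨d, hd, hsd⟩ => huniq d hd ▸ hsd, fun hs => ⟨c, hc, hs⟩⟩
  -- fibres
  set M := Finset.univ.filter fun g : G => g ≠ 1 ∧ zasFix Ω g ≠ 1 with hM
  let Inv : G → Finset G := fun g => I.filter fun w => w * g * w⁻¹ = g⁻¹
  have hone : ∀ {g : G}, g ≠ 1 → ∀ {c : Ω}, g • c = c → (∀ d, g • d = d → d = c) → zasFix Ω g = 1 := by
    intro g _ c hc hu
    rw [zasFix, Finset.card_eq_one]
    exact ⟨c, Finset.ext fun d => by
      simp only [Finset.mem_filter, Finset.mem_univ, true_and, Finset.mem_singleton]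
      exact ⟨hu d, fun e => e ▸ hc⟩⟩
  have hmaps : ∀ p ∈ P, p.1 * p.2 ∈ M ∧ p.1 * (p.1 * p.2) * p.1⁻¹ = (p.1 * p.2)⁻¹ := by
    rintro ⟨s, t⟩ hp
    simp only [hP, hI, Finset.mem_filter, Finset.mem_product, Finset.mem_univ, true_and] at hp
    obtain ⟨⟨hs, ht⟩, hne⟩ := hp
    have hss : s⁻¹ = s := inv_eq_of_mul_eq_one_right (by rw [← pow_two, ← hs, pow_orderOf_eq_one])
    have htt : t⁻¹ = t := inv_eq_of_mul_eq_one_right (by rw [← pow_two, ← ht, pow_orderOf_eq_one])
    have hinv : s * (s * t) * s⁻¹ = (s * t)⁻¹ := by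
      rw [mul_inv_rev, hss, htt, ← mul_assoc s s t, show s * s = 1 by
        rw [← pow_two, ← hs, pow_orderOf_eq_one], one_mul]
    have h1 : s * t ≠ 1 := fun e => by
      have : t = s := (eq_inv_of_mul_eq_one_right e).trans hss
      obtain ⟨c, hc, -⟩ := S.exists_fix hs
      exact hne c ⟨hc, this ▸ hc⟩
    refine ⟨Finset.mem_filter.2 ⟨Finset.mem_univ _, h1, fun hf => ?_⟩, hinv⟩
    rw [zasFix, Finset.card_eq_one] at hf
    obtain ⟨c, hc⟩ := hf
    simp only [Finset.ext_iff, Finset.mem_filter, Finset.mem_univ, true_and, Finset.mem_singleton] at hc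
    have hxc : (s * t) • c = c := (hc c).2 rfl
    have hsc : s • c = c := by
      refine (hc _).1 ?_
      have h2 : (s * t)⁻¹ • c = c := by rw [inv_smul_eq_iff, hxc]
      rw [← mul_smul, show s * t * s = s * (s * t)⁻¹ by rw [mul_inv_rev, hss, htt, mul_assoc],
        mul_smul, h2]
    refine hne c ⟨hsc, ?_⟩
    rw [mul_smul] at hxc
    exact MulAction.injective s (hxc.trans hsc.symm)
  have hfib : P.card = ∑ g ∈ M, (Inv g).card := by
    rw [← Finset.card_sigma]
    refine Finset.card_bij (fun p _ => ⟨p.1 * p.2, p.1⟩) (fun p hp => ?_) (fun p _ r _ e => ?_)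
      (fun r hr => ?_)
    · refine Finset.mem_sigma.2 ⟨(hmaps p hp).1, Finset.mem_filter.2 ⟨?_, (hmaps p hp).2⟩⟩
      exact (Finset.mem_product.1 (Finset.mem_filter.1 hp).1).1
    · simp only [Sigma.mk.injEq, heq_eq_eq] at e
      refine Prod.ext e.2 ?_
      exact mul_left_cancel (e.1.trans (by rw [e.2]))
    · obtain ⟨g, w⟩ := r
      obtain ⟨hg, hw⟩ := Finset.mem_sigma.1 hr
      simp only [hM, hI, Inv, Finset.mem_filter, Finset.mem_univ, true_and] at hg hw
      obtain ⟨hw2, hwg⟩ := hw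
      have hww : w * w = 1 := by rw [← pow_two, ← hw2, pow_orderOf_eq_one]
      have hsq : (w * g) * (w * g) = 1 := by
        calc w * g * (w * g) = (w * g * w⁻¹) * (w * w) * g := by group
          _ = 1 := by rw [hwg, hww, mul_one, inv_mul_cancel]
      have ho : orderOf (w * g) = 2 := orderOf_eq_prime (by rw [pow_two]; exact hsq) fun e => hg.2 (by
        rw [show g = w from (eq_inv_of_mul_eq_one_right e).trans (inv_eq_of_mul_eq_one_right hww)]
        exact S.invol_one_fix hw2)
      refine ⟨(w, w * g), Finset.mem_filter.2 ⟨Finset.mem_product.2 ⟨?_, ?_⟩, ?_⟩, ?_⟩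
      · exact Finset.mem_filter.2 ⟨Finset.mem_univ _, hw2⟩
      · exact Finset.mem_filter.2 ⟨Finset.mem_univ _, ho⟩
      · rintro c ⟨hc1, hc2⟩
        obtain ⟨k, hk⟩ := S.exists_move c
        have hmem : ∀ {s : G}, orderOf s = 2 → s • c = c → k * s * k⁻¹ ∈ S.U := fun {s} hs hsc =>
          (S.invol_mem_U (by rw [← MulAut.conj_apply, MulEquiv.orderOf_eq, hs])).2 (by
            rw [mul_smul, mul_smul, ← hk, inv_smul_smul, hsc])
        have hU1 : (⟨_, hmem hw2 hc1⟩ : S.U) ∈ Subgroup.center S.U := (S.center_iff _).2 (Subtype.ext (by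
          show k * w * k⁻¹ * (k * w * k⁻¹) = 1
          calc _ = k * (w * w) * k⁻¹ := by group
            _ = 1 := by rw [hww]; group))
        have hcom : k * (w * g) * k⁻¹ * (k * w * k⁻¹) = k * w * k⁻¹ * (k * (w * g) * k⁻¹) :=
          congrArg Subtype.val (Subgroup.mem_center_iff.1 hU1 ⟨_, hmem ho hc2⟩)
        have hgw : g * w = w * g := by
          have : k * (w * (g * w)) * k⁻¹ = k * (w * (w * g)) * k⁻¹ := by
            rw [show k * (w * (g * w)) * k⁻¹ = k * (w * g) * k⁻¹ * (k * w * k⁻¹) by group, hcom]; group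
          exact mul_left_cancel (mul_left_cancel (mul_right_cancel this))
        have hgg : g * g = 1 := by
          have h3 : w * g * w⁻¹ = g := by rw [← hgw]; group
          rw [h3] at hwg
          conv_lhs => arg 2; rw [hwg]
          exact mul_inv_cancel g
        exact hg.2 (S.invol_one_fix (orderOf_eq_prime (by rw [pow_two]; exact hgg) hg.1))
      · show (⟨w * (w * g), w⟩ : (_ : G) × G) = ⟨g, w⟩
        rw [← mul_assoc, hww, one_mul]
  -- elements with two fixed points
  have htwo : ∀ g : G, g ≠ 1 → zasFix Ω g = 2 → (Inv g).card = Nat.card S.D := by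
    intro g hg1 hg
    rw [zasFix, Finset.card_eq_two] at hg
    obtain ⟨c, d, hcd, hset⟩ := hg
    simp only [Finset.ext_iff, Finset.mem_filter, Finset.mem_univ, true_and, Finset.mem_insert,
      Finset.mem_singleton] at hset
    rw [← zas_card_swap S.hZ S.hab S.odd_D hcd]
    refine congrArg Finset.card ?_
    ext w
    simp only [hI, Inv, Finset.mem_filter, Finset.mem_univ, true_and]
    refine and_congr_right fun hw => ⟨fun hwg => ?_, fun hwc => ?_⟩
    · have hkey : ∀ p : Ω, g • p = p → g • (w • p) = w • p := fun p hp => by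
        have hp' : g⁻¹ • p = p := by rw [inv_smul_eq_iff, hp]
        have : g * w = w * g⁻¹ := by
          rw [← hwg, inv_eq_of_mul_eq_one_right (show w * w = 1 by rw [← pow_two, ← hw, pow_orderOf_eq_one]),
            ← mul_assoc, ← mul_assoc, show w * w = 1 by rw [← pow_two, ← hw, pow_orderOf_eq_one], one_mul]
        rw [← mul_smul, this, mul_smul, hp']
      rcases (hset _).1 (hkey c ((hset c).2 (Or.inl rfl))) with h | h
      · exfalso
        rcases (hset _).1 (hkey d ((hset d).2 (Or.inr rfl))) with h' | h'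
        · exact hcd (MulAction.injective w (h.trans h'.symm))
        · exact hcd (S.fix_unique hw h h')
      · exact h
    · have hodd' : Odd (Nat.card ↥(MulAction.stabilizer G c ⊓ MulAction.stabilizer G d : Subgroup G)) := by
        rw [zas_card_pair S.hZ S.hab hcd]; exact S.odd_D
      refine zas_invert S.hZ hcd hodd' hw hwc ?_ ⟨(hset c).2 (Or.inl rfl), (hset d).2 (Or.inr rfl)⟩
      rw [← hwc, ← mul_smul, ← pow_two, ← hw, pow_orderOf_eq_one, one_smul]
  have hzero : ∀ g : G, (g ≠ 1 ∧ zasFix Ω g = 0) ↔ ∀ c : Ω, g • c ≠ c := by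
    intro g
    rw [zasFix, Finset.card_eq_zero, Finset.filter_eq_empty_iff]
    refine ⟨fun h c => h.2 (Finset.mem_univ c), fun h => ⟨fun e => h S.a (by rw [e, one_smul]),
      fun c _ => h c⟩⟩
  have hsplit : ∑ g ∈ M, (Inv g).card =
      (∑ g ∈ Finset.univ.filter (fun g : G => g ≠ 1 ∧ zasFix Ω g = 0), (Inv g).card) +
      (Finset.univ.filter fun g : G => g ≠ 1 ∧ zasFix Ω g = 2).card * Nat.card S.D := by
    rw [← Finset.sum_filter_add_sum_filter_not M fun g => zasFix Ω g = 0]
    congr 1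
    · refine Finset.sum_congr ?_ fun _ _ => rfl
      ext g
      simp only [hM, Finset.mem_filter, Finset.mem_univ, true_and]
      exact ⟨fun ⟨⟨h1, _⟩, h3⟩ => ⟨h1, h3⟩, fun ⟨h1, h2⟩ => ⟨⟨h1, by omega⟩, h2⟩⟩
    · rw [show M.filter (fun g => ¬ zasFix Ω g = 0) =
        Finset.univ.filter fun g : G => g ≠ 1 ∧ zasFix Ω g = 2 from ?_]
      · rw [Finset.sum_congr rfl (g := fun _ => Nat.card S.D) fun g hg =>
          htwo g (Finset.mem_filter.1 hg).2.1 (Finset.mem_filter.1 hg).2.2, Finset.sum_const, smul_eq_mul]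
      ext g
      simp only [hM, Finset.mem_filter, Finset.mem_univ, true_and]
      refine ⟨fun ⟨⟨h1, h2⟩, h3⟩ => ⟨h1, ?_⟩, fun ⟨h1, h2⟩ => ⟨⟨h1, by omega⟩, by omega⟩⟩
      have := zasFix_le_two (Ω := Ω) S.hZ h1
      omega
  have hfree : ∑ g ∈ Finset.univ.filter (fun g : G => g ≠ 1 ∧ zasFix Ω g = 0), (Inv g).card =
      ∑ g ∈ Finset.univ.filter (fun g : G => IsRealFree Ω g),
        Nat.card (Subgroup.centralizer ({g} : Set G)) := by
    symm
    refine (Finset.sum_congr rfl fun g hg => ?_).trans (Finset.sum_subset ?_ fun g hg hg' => ?_)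
    · rw [← S.card_inverting (Finset.mem_filter.1 hg).2]
      simp only [hI, Inv, Finset.filter_filter]
    · intro g hg
      exact Finset.mem_filter.2 ⟨Finset.mem_univ _, (hzero g).2 (Finset.mem_filter.1 hg).2.1⟩
    · rw [Finset.card_eq_zero, Finset.filter_eq_empty_iff]
      intro w hw hwg
      exact hg' (Finset.mem_filter.2 ⟨Finset.mem_univ _, (hzero g).1 (Finset.mem_filter.1 hg).2, w,
        (Finset.mem_filter.1 hw).2, hwg⟩)
  rw [← hfree]
  obtain ⟨-, h2, -⟩ := zas_counts (e := Nat.card S.D) S.hZ S.hab S.card_omega rfl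
  rw [hfib, hsplit, show I.card = Nat.card S.D * (S.h + 1) from hIc] at hPc
  rw [S.card_G]
  simp only [q, Nat.add_sub_cancel]
  zify at hPc h2 ⊢
  linear_combination 2 * hPc - (Nat.card S.D : ℤ) * h2

end ZSetup

end Cfsg.Lib.ZasSuzuki
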